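import Cfsg.Agent.Lib.Subspaces.OrthLines
import Cfsg.Agent.Lib.Subspaces.OmegaGL
import Cfsg.Agent.Lib.Forms.Det

/-!
Siegel centres of a quadratic form given as a function (any characteristic) and the overgroups in
`Ω` of the stabiliser of a totally singular subspace.
-/

set_option autoImplicit false

namespace Cfsg.Agent.Lib.TableRelax.OrthSingular

open Matrix Cfsg.Agent.Lib.Subspaces.Transvection Cfsg.Agent.Lib.Subspaces.FormVec
  Cfsg.Agent.Lib.Subspaces.OrthForm Cfsg.Agent.Lib.Subspaces.OrthLines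
  Cfsg.Agent.Lib.Subspaces.OmegaGL

variable {ι : Type} [Fintype ι] [DecidableEq ι] {F : Type*} [Field F] {Q : (ι → F) → F}

local notation "B" => QuadraticMap.polar Q

/-- A function which is a bundled non-degenerate quadratic form satisfies the predicate. -/
theorem isNondegenerateQuadraticForm_of (P : QuadraticForm F (ι → F))
    (hP : Cfsg.Agent.Lib.Forms.Nondeg P) (hQP : ∀ v, Q v = P v) :
    Cfsg.Geo.IsNondegenerateQuadraticForm Q := by
  have hfun : Q = ⇑P := funext hQP
  subst hfun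
  refine ⟨fun c v => by rw [QuadraticMap.map_smul, smul_eq_mul]; ring,
    ⟨fun x y v => QuadraticMap.polar_add_left (Q := P) x y v,
      fun c x v => QuadraticMap.polar_smul_left (Q := P) c x v,
      fun v x y => QuadraticMap.polar_add_right (Q := P) v x y,
      fun c v x => QuadraticMap.polar_smul_right (Q := P) c v x⟩, fun v hv => ?_⟩
  obtain ⟨x, hx⟩ : ∃ x, QuadraticMap.polar (⇑P) v x ≠ 0 := by
    by_contra h
    push Not at h
    exact hv (hP v h)
  exact ⟨⟨x, by rwa [QuadraticMap.polar_comm]⟩, ⟨x, hx⟩⟩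

/-- A singular vector with prescribed products against a few vectors, any characteristic. -/
theorem exists_singular_any [Finite F] (hQ : Cfsg.Geo.IsNondegenerateQuadraticForm Q) {k : ℕ}
    (s : Fin k → ι → F) {z : ι → F} (hz : z ∉ Submodule.span F (Set.range s))
    (hk : 2 * (k + 2) < Fintype.card ι) :
    ∃ u, Q u = 0 ∧ (∀ i, B u (s i) = 0) ∧ B u z = 1 := by
  by_cases h2 : (2 : F) = 0
  · obtain ⟨t, ht, htz⟩ := dual hQ hz
    have ht' : ∀ i, B t (s i) = 0 := fun i => ht _ (Submodule.subset_span ⟨i, rfl⟩)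
    obtain ⟨y, hy, hyn⟩ := exists_anisotropic hQ (Fin.cons t (Fin.cons z s)) (by omega)
    have hyt : B y t = 0 := by simpa using hy 0
    have hyz : B y z = 0 := by simpa using hy (Fin.succ 0)
    have hys : ∀ i, B y (s i) = 0 := fun i => by simpa using hy i.succ.succ
    have : Fintype F := Fintype.ofFinite F
    have hc : ringChar F = 2 := by
      have : CharP F 2 := CharTwo.of_one_ne_zero_of_two_eq_zero one_ne_zero h2
      exact ringChar.eq F 2
    obtain ⟨a, ha⟩ := FiniteField.isSquare_of_char_two hc (-Q t / Q y)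
    refine ⟨t + a • y, ?_, fun i => ?_, ?_⟩
    · rw [Q_add_smul hQ, B_comm t y, hyt, mul_zero, add_zero, pow_two, ← ha,
        div_mul_cancel₀ _ hyn, add_neg_cancel]
    · rw [hQ.polar_bilinear.add_left, hQ.polar_bilinear.smul_left, ht', hys, mul_zero, add_zero]
    · rw [hQ.polar_bilinear.add_left, hQ.polar_bilinear.smul_left, htz, hyz, mul_zero, add_zero]
  · exact exists_singular hQ h2 s hz hk.le

/-- All Siegel transformations at the singular vector `u` lie in `M`. -/
def Full (Q : (ι → F) → F) (M : Subgroup (GL ι F)) (u : ι → F) : Prop :=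
  Q u = 0 ∧ ∀ w, QuadraticMap.polar Q w u = 0 → sieg Q u w ∈ M

variable {M : Subgroup (GL ι F)}

theorem full_conj (hQ : Cfsg.Geo.IsNondegenerateQuadraticForm Q) {u : ι → F} (h : Full Q M u)
    {g : GL ι F} (hgM : g ∈ M) (hg : ∀ x, Q ((g : Matrix ι ι F) *ᵥ x) = Q x) :
    Full Q M ((g : Matrix ι ι F) *ᵥ u) := by
  refine ⟨by rw [hg, h.1], fun w hw => ?_⟩
  have hw' : B (((g⁻¹ : GL ι F) : Matrix ι ι F) *ᵥ w) u = 0 := by
    rw [← B_map hg, gl_mulVec_inv, hw]
  rw [← gl_mulVec_inv g w, ← conj_sieg hQ hg h.1 hw']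
  exact M.mul_mem (M.mul_mem hgM (h.2 _ hw')) (M.inv_mem hgM)

theorem full_smul (hQ : Cfsg.Geo.IsNondegenerateQuadraticForm Q) {u : ι → F} (h : Full Q M u)
    (c : F) : Full Q M (c • u) := by
  have hb := hQ.polar_bilinear
  refine ⟨by rw [hQ.smul, h.1, mul_zero], fun w hw => ?_⟩
  rcases eq_or_ne c 0 with rfl | hc
  · have : sieg Q ((0 : F) • u) w = 1 := gl_ext fun x => by
      rw [sieg_mulVec hQ (by rw [hQ.smul, h.1, mul_zero]) hw, zero_smul, zero_right hQ,
        Units.val_one, one_mulVec]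
      simp
    rw [this]; exact M.one_mem
  · have hwu : B w u = 0 := by
      rw [hb.smul_right] at hw
      exact (mul_eq_zero.mp hw).resolve_left hc
    have : sieg Q (c • u) w = sieg Q u (c • w) := gl_ext fun x => by
      rw [sieg_mulVec hQ (by rw [hQ.smul, h.1, mul_zero]) hw,
        sieg_mulVec hQ h.1 (by rw [hb.smul_left, hwu, mul_zero]), hQ.smul, hb.smul_right,
        hb.smul_right]
      module
    rw [this]
    exact h.2 _ (by rw [hb.smul_left, hwu, mul_zero])

theorem omega_le_of_full [Finite F] (hQ : Cfsg.Geo.IsNondegenerateQuadraticForm Q)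
    (hn : 5 ≤ Fintype.card ι) (h : ∀ u, Q u = 0 → Full Q M u) : Cfsg.Geo.omegaGL Q ≤ M :=
  omega_le hQ hn fun u w hu hwu => (h u hu).2 w hwu

/-- The Siegel element at `a` carrying `x` to `z`. -/
theorem move_eq (hQ : Cfsg.Geo.IsNondegenerateQuadraticForm Q) {a x z : ι → F} (ha : Q a = 0)
    (hx : Q x = 0) (hz : Q z = 0) (hxa : B x a = 1) (hza : B z a = 1) :
    (sieg Q a (z - x) : Matrix ι ι F) *ᵥ x = z := by
  have hb := hQ.polar_bilinear
  have hw : B (z - x) a = 0 := by rw [form_sub_left (bil hQ), hza, hxa, sub_self]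
  have h1 : B x (z - x) + Q (z - x) = 0 := by
    have := Q_add (Q := Q) x (z - x)
    rw [add_sub_cancel, hx, hz] at this
    linear_combination -this
  rw [sieg_mulVec hQ ha hw, hxa, one_smul, mul_one,
    show -B x (z - x) - Q (z - x) = 0 by linear_combination -h1, zero_smul, add_zero,
    add_sub_cancel]

theorem full_move (hQ : Cfsg.Geo.IsNondegenerateQuadraticForm Q) {a x z : ι → F}
    (ha : Full Q M a) (hx : Full Q M x) (hz : Q z = 0) (hxa : B x a = 1) (hza : B z a = 1) :
    Full Q M z := by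
  have hw : B (z - x) a = 0 := by rw [form_sub_left (bil hQ), hza, hxa, sub_self]
  have := full_conj hQ hx (ha.2 _ hw) (fun y => sieg_isometry hQ ha.1 hw y)
  rwa [move_eq hQ ha.1 hx.1 hz hxa hza] at this

/-- An overgroup in `Ω` of the stabiliser of a totally singular subspace `W` is that stabiliser or
contains `Ω`. `hext` excludes subspaces of dimension `n / 2 - 1` in plus type. -/
theorem omega_le_of_ts [Finite F] (hQ : Cfsg.Geo.IsNondegenerateQuadraticForm Q)
    (hn : 6 < Fintype.card ι) {W : Submodule F (ι → F)} (hW0 : W ≠ ⊥)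
    (hW : ∀ w ∈ W, Q w = 0)
    (hext : 3 + 2 * Module.finrank F W ≤ Fintype.card ι ∨
      ∀ r, Q r = 0 → (∀ w ∈ W, B r w = 0) → r ∈ W)
    (hMS : M ≤ Cfsg.Geo.omegaGL Q)
    (hP : ∀ g : GL ι F, g ∈ Cfsg.Geo.subspaceStabilizer W → g ∈ Cfsg.Geo.omegaGL Q → g ∈ M)
    {g : GL ι F} (hgM : g ∈ M) (hg : g ∉ Cfsg.Geo.subspaceStabilizer W) :
    Cfsg.Geo.omegaGL Q ≤ M := by
  have hb := hQ.polar_bilinear
  have hn5 : 5 ≤ Fintype.card ι := by omega
  have hWB : ∀ u ∈ W, ∀ v ∈ W, B u v = 0 := fun u hu v hv => by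
    rw [QuadraticMap.polar, hW _ (W.add_mem hu hv), hW u hu, hW v hv]; ring
  have hFW : ∀ a ∈ W, Full Q M a := by
    refine fun a ha => ⟨hW a ha, fun w hw => hP _ (mem_subspaceStabilizer_iff.mpr fun x hx => ?_)
      (sieg_mem_omega hQ hn5 (hW a ha) hw)⟩
    rw [sieg_mulVec hQ (hW a ha) hw, hWB x hx a ha, zero_smul, add_zero]
    exact W.add_mem hx (W.smul_mem _ ha)
  have hperp : ∀ u w : ι → F, Q u = 0 → B w u = 0 → (∀ x ∈ W, B x u = 0) → (∀ x ∈ W, B x w = 0) →
      sieg Q u w ∈ M := by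
    intro u w hu hwu hxu hxw
    refine hP _ (mem_subspaceStabilizer_iff.mpr fun x hx => ?_) (sieg_mem_omega hQ hn5 hu hwu)
    rw [sieg_mulVec hQ hu hwu, hxu x hx, hxw x hx, zero_smul, add_zero, neg_zero, mul_zero,
      sub_zero, zero_smul, add_zero]
    exact hx
  -- a centre not orthogonal to `W`
  obtain ⟨v, hv, hvW⟩ : ∃ v, Full Q M v ∧ ∃ a ∈ W, B v a ≠ 0 := by
    by_contra hc
    push Not at hc
    apply hg
    rw [mem_subspaceStabilizer_iff]
    intro w hw
    have hgi := omega_isometry hQ (hMS hgM)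
    have hr := full_conj hQ (hFW w hw) hgM hgi
    set r := (g : Matrix ι ι F) *ᵥ w
    by_contra hrW
    have hrperp : ∀ a ∈ W, B r a = 0 := hc r hr
    have hX : ∀ x, Full Q M x → B r x = 0 := by
      intro x hx
      have hg' := M.inv_mem hgM
      have h1 := hc _ (full_conj hQ hx hg' (omega_isometry hQ (hMS hg'))) w hw
      rw [← B_map hgi, gl_mulVec_inv] at h1
      rw [B_comm]; exact h1
    rcases hext with hext | hext
    swap
    · exact hrW (hext r hr.1 hrperp)
    obtain ⟨t, ht, htr⟩ := dual hQ hrW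
    set u := t + (-Q t) • r with hu
    have hu0 : Q u = 0 := by rw [hu, Q_add_smul hQ, hr.1, htr]; ring
    have hru : B r u = 1 := by
      rw [hu, hb.add_right, hb.smul_right, B_comm r t, htr, B_self hQ, hr.1]; ring
    have huW : ∀ a ∈ W, B u a = 0 := fun a ha => by
      rw [hu, hb.add_left, hb.smul_left, ht a ha, hrperp a ha]; ring
    -- an anisotropic vector orthogonal to `W`, `r` and `u`
    obtain ⟨b⟩ : Nonempty (Module.Basis (Fin (Module.finrank F W)) F W) := ⟨Module.finBasis F W⟩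
    let s : Fin (Module.finrank F W + 1 + 1) → ι → F :=
      Fin.cons r (Fin.cons u fun i => (b i : ι → F))
    have hs : ∀ {y : ι → F}, (∀ i, B y (s i) = 0) →
        B y r = 0 ∧ B y u = 0 ∧ ∀ a ∈ W, B y a = 0 := by
      intro y hy
      refine ⟨by simpa [s] using hy 0, by simpa [s] using hy (Fin.succ 0), fun a ha => ?_⟩
      have hle : ∀ x ∈ Submodule.span F (Set.range fun i => (b i : ι → F)), B y x = 0 :=
        perp_span hQ fun i => by simpa [s] using hy i.succ.succ
      refine hle a ?_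
      have h3 := congrArg (fun x : W => (x : ι → F)) (b.sum_repr ⟨a, ha⟩)
      simp only [Submodule.coe_sum, Submodule.coe_smul] at h3
      rw [← h3]
      exact Submodule.sum_mem _ fun i _ => Submodule.smul_mem _ _ (Submodule.subset_span ⟨i, rfl⟩)
    obtain ⟨y, hyW, hy⟩ := exists_common_zero_not_mem W (fun i => formVec B (s i)) (by omega)
    obtain ⟨hyr, hyu, hya⟩ := hs fun i => by rw [← formVec_dot (bil hQ)]; exact hy i
    obtain ⟨w', hw'W, hw'r, hw'u, hw'Q⟩ : ∃ w', (∀ a ∈ W, B w' a = 0) ∧ B w' r = 0 ∧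
        B w' u = 0 ∧ Q w' ≠ 0 := by
      by_cases hQy : Q y = 0
      swap
      · exact ⟨y, hya, hyr, hyu, hQy⟩
      obtain ⟨t', ht', ht'y⟩ := dual hQ hyW
      set y' := t' + (-B t' u) • r + (-B t' r) • u with hy'
      have h1 : ∀ a ∈ W, B y' a = 0 := fun a ha => by
        rw [hy', hb.add_left, hb.add_left, hb.smul_left, hb.smul_left, ht' a ha, hrperp a ha,
          huW a ha]; ring
      have h2 : B y' r = 0 := by
        rw [hy', hb.add_left, hb.add_left, hb.smul_left, hb.smul_left, B_self hQ, hr.1,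
          B_comm u r, hru]; ring
      have h3 : B y' u = 0 := by
        rw [hy', hb.add_left, hb.add_left, hb.smul_left, hb.smul_left, hru, B_self hQ, hu0]; ring
      have h4 : B y' y = 1 := by
        rw [hy', hb.add_left, hb.add_left, hb.smul_left, hb.smul_left, ht'y, B_comm r y, hyr,
          B_comm u y, hyu]; ring
      by_cases hQy' : Q y' = 0
      · refine ⟨y' + y, fun a ha => by rw [hb.add_left, h1 a ha, hya a ha, add_zero],
          by rw [hb.add_left, h2, hyr, add_zero], by rw [hb.add_left, h3, hyu, add_zero], ?_⟩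
        rw [Q_add (Q := Q), hQy', hQy, h4, zero_add, zero_add]
        exact one_ne_zero
      · exact ⟨y', h1, h2, h3, hQy'⟩
    have hp := hperp u w' hu0 hw'u (fun x hx => by rw [B_comm]; exact huW x hx)
      (fun x hx => by rw [B_comm]; exact hw'W x hx)
    have := hX _ (full_conj hQ hr hp fun x => sieg_isometry hQ hu0 hw'u x)
    rw [sieg_mulVec hQ hu0 hw'u, hb.add_right, hb.add_right, hb.smul_right, hb.smul_right,
      B_self hQ, hr.1, hru, B_comm r w', hw'r] at this
    exact hw'Q (by linear_combination -this)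
  -- every singular vector not orthogonal to `W`
  have h1 : ∀ z, Q z = 0 → (∃ a ∈ W, B z a ≠ 0) → Full Q M z := by
    intro z hz ⟨az, haz, hzaz⟩
    obtain ⟨av, hav, hvav⟩ := hvW
    obtain ⟨a1, ha1, hva1⟩ : ∃ a1 ∈ W, B v a1 = 1 :=
      ⟨(B v av)⁻¹ • av, W.smul_mem _ hav, by rw [hb.smul_right, inv_mul_cancel₀ hvav]⟩
    by_cases hdep : ∀ a ∈ W, B v a = 0 → B z a = 0
    · have hl : B z a1 ≠ 0 := by
        intro h0
        have := hdep (az - B v az • a1) (W.sub_mem haz (W.smul_mem _ ha1))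
          (by rw [sub_right hQ, hb.smul_right, hva1, mul_one, sub_self])
        rw [sub_right hQ, hb.smul_right, h0, mul_zero, sub_zero] at this
        exact hzaz this
      exact full_move hQ (hFW _ (W.smul_mem (B z a1)⁻¹ ha1)) (full_smul hQ hv (B z a1)) hz
        (by rw [hb.smul_left, hb.smul_right, hva1, mul_one, mul_inv_cancel₀ hl])
        (by rw [hb.smul_right, inv_mul_cancel₀ hl])
    · push Not at hdep
      obtain ⟨a2, ha2, hva2, hza2⟩ := hdep
      exact full_move hQ (hFW _ (W.add_mem ha1 (W.smul_mem ((1 - B z a1) / B z a2) ha2))) hv hz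
        (by rw [hb.add_right, hb.smul_right, hva1, hva2, mul_zero, add_zero])
        (by rw [hb.add_right, hb.smul_right, div_mul_cancel₀ _ hza2, add_sub_cancel])
  refine omega_le_of_full hQ hn5 fun z hz => ?_
  by_cases hzW : z ∈ W
  · exact hFW z hzW
  by_cases hzp : ∃ a ∈ W, B z a ≠ 0
  · exact h1 z hz hzp
  obtain ⟨a, ha, ha0⟩ := Submodule.exists_mem_ne_zero_of_ne_bot hW0
  have hza : z ∉ Submodule.span F {a} := fun hm =>
    hzW ((Submodule.span_singleton_le_iff_mem _ _).mpr ha hm)
  have key : ∀ p : ι → F, p ∉ Submodule.span F {a} →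
      ∃ b, Full Q M b ∧ B b p = 1 ∧ B b a = 1 := by
    intro p hp
    obtain ⟨b, hbQ, hbs, hbp⟩ := exists_singular_any hQ ![a - p] (z := p) (fun hm => by
      rw [Matrix.range_cons, Matrix.range_empty, Set.union_empty,
        Submodule.mem_span_singleton] at hm
      obtain ⟨c, hc⟩ := hm
      rcases eq_or_ne (1 + c) 0 with e | e
      · refine ha0 ?_
        rw [show c = -1 by linear_combination e, neg_one_smul, neg_sub] at hc
        simpa using hc
      · exact hp (Submodule.mem_span_singleton.mpr ⟨(1 + c)⁻¹ * c, by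
          rw [← smul_smul, show c • a = (1 + c) • p by linear_combination (norm := module) hc,
            smul_smul, inv_mul_cancel₀ e, one_smul]⟩)) (by omega)
    have hba : B b a = 1 := by
      have := hbs 0
      rw [Matrix.cons_val_fin_one, sub_right hQ, hbp, sub_eq_zero] at this
      exact this
    exact ⟨b, h1 b hbQ ⟨a, ha, by rw [hba]; exact one_ne_zero⟩, hbp, hba⟩
  obtain ⟨b, hbF, hbz, hba⟩ := key z hza
  obtain ⟨x, hxF, hxb, -⟩ := key b (fun hm => by
    obtain ⟨c, hc⟩ := Submodule.mem_span_singleton.mp hm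
    rw [← hc, hb.smul_left, B_self hQ, hW a ha, mul_zero, mul_zero] at hba
    exact zero_ne_one hba)
  exact full_move hQ hbF hxF hz hxb (by rw [B_comm, hbz])

/-- A proper non-zero totally singular subspace is moved by `Ω`. -/
theorem exists_omega_not_stab [Finite F] (hQ : Cfsg.Geo.IsNondegenerateQuadraticForm Q)
    (hn : 6 < Fintype.card ι) {W : Submodule F (ι → F)} (hW0 : W ≠ ⊥)
    (hW : ∀ w ∈ W, Q w = 0) :
    ∃ g ∈ Cfsg.Geo.omegaGL Q, g ∉ Cfsg.Geo.subspaceStabilizer W := by
  have hb := hQ.polar_bilinear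
  obtain ⟨a, ha, ha0⟩ := Submodule.exists_mem_ne_zero_of_ne_bot hW0
  obtain ⟨b, hbQ, -, hba⟩ := exists_singular_any hQ (![] : Fin 0 → ι → F) (z := a)
    (by simpa using ha0) (by omega)
  obtain ⟨w, hw, hwQ⟩ := exists_anisotropic hQ ![a, b] (by omega)
  have hwa : B w a = 0 := hw 0
  have hwb : B w b = 0 := hw 1
  refine ⟨sieg Q b w, sieg_mem_omega hQ (by omega) hbQ hwb, fun hmem => hwQ ?_⟩
  have h1 := mem_subspaceStabilizer_iff.mp hmem a ha
  have h2 : B ((sieg Q b w : Matrix ι ι F) *ᵥ a) a = 0 := by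
    rw [QuadraticMap.polar, hW _ (W.add_mem h1 ha), hW _ h1, hW a ha]; ring
  rw [sieg_mulVec hQ hbQ hwb, hb.add_left, hb.add_left, hb.smul_left, hb.smul_left, B_self hQ,
    hW a ha, B_comm a b, hba, hwa, B_comm a w, hwa] at h2
  linear_combination -h2

/-- Extending a totally singular subspace by a singular orthogonal vector. -/
theorem ext_bound (hQ : Cfsg.Geo.IsNondegenerateQuadraticForm Q) {W : Submodule F (ι → F)}
    (hW : ∀ w ∈ W, Q w = 0) {r : ι → F} (hr : Q r = 0) (hrp : ∀ w ∈ W, B r w = 0) (hrW : r ∉ W) :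
    ∃ U : Submodule F (ι → F), Cfsg.Geo.IsTotallySingularQuad Q U ∧
      Module.finrank F U = Module.finrank F W + 1 ∧
      2 * (Module.finrank F W + 1) ≤ Fintype.card ι := by
  have hU : ∀ x ∈ W ⊔ Submodule.span F {r}, Q x = 0 := by
    intro x hx
    obtain ⟨w, hw, z, hz, rfl⟩ := Submodule.mem_sup.mp hx
    obtain ⟨c, rfl⟩ := Submodule.mem_span_singleton.mp hz
    rw [Q_add_smul hQ, hW w hw, hr, B_comm, hrp w hw]
    ring
  have hd : Module.finrank F ↥(W ⊔ Submodule.span F {r}) = Module.finrank F W + 1 := by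
    have h := Submodule.finrank_sup_add_finrank_inf_eq W (Submodule.span F {r})
    have hr0 : r ≠ 0 := fun e => hrW (e ▸ W.zero_mem)
    have hinf : W ⊓ Submodule.span F {r} = ⊥ := by
      rw [Submodule.eq_bot_iff]
      rintro x ⟨hxW, hx⟩
      obtain ⟨c, rfl⟩ := Submodule.mem_span_singleton.mp hx
      by_contra hc0
      refine hrW ?_
      have hc : c ≠ 0 := fun e => hc0 (by rw [e, zero_smul])
      simpa [smul_smul, hc] using W.smul_mem c⁻¹ hxW
    rw [hinf, finrank_bot, finrank_span_singleton hr0] at h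
    omega
  refine ⟨_, hU, hd, ?_⟩
  have := Cfsg.Agent.Lib.Forms.two_mul_finrank_le (qf_nondeg hQ) _ (fun x hx => hU x hx)
  rwa [hd, Module.finrank_fintype_fun_eq_card] at this

end Cfsg.Agent.Lib.TableRelax.OrthSingular
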