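import Cfsg.Agent.Lib.TableRelax.OrthNondegMax
import Cfsg.Agent.Lib.TableRelax.OrthSingular
import Cfsg.Agent.Lib.TableRelax.Mono.Transfer
import Cfsg.Agent.Lib.SubfieldSeven.OrthSubfield
import Cfsg.Agent.Lib.Subspaces.OrthForm
import Cfsg.Agent.Lib.OrthStd.Models
import Cfsg.Agent.Lib.OrthOmega.Simple
import Cfsg.Agent.Lib.Subspaces.OrthDecompOdd
import Cfsg.Prelude.Def_GeometricClasses

/-!
The geometric maximal subgroups of `Ω₉(q)`, `q` odd, that follow from the general libraries: totally singular and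
non-degenerate subspace stabilisers, frames, three 3-spaces, subfield groups.
-/

set_option autoImplicit false

namespace Cfsg.Agent.Lib.TableRelax.OmegaNine

variable {F : Type*} [Field F] [Fintype F]

theorem nine_nondeg (hodd : Odd (Fintype.card F)) :
    Cfsg.Geo.IsNondegenerateQuadraticForm (Cfsg.quadFormOdd 4 F) :=
  Cfsg.Agent.Lib.Subspaces.OrthSingular.isNondegenerateQuadraticForm_of _
    (Cfsg.Agent.Lib.OrthOmega.qOddC_nondeg 4 (Cfsg.Agent.Lib.OrthOmega.two_ne_zero_of_odd hodd))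
    (Cfsg.Agent.Lib.OrthStd.quadFormOdd_eq 4)

theorem ts_nine (hodd : Odd (Fintype.card F)) :
    (∀ W : Submodule F (Unit ⊕ (Fin 4 ⊕ Fin 4) → F), W ≠ ⊥ → Cfsg.Geo.IsTotallySingularQuad (Cfsg.quadFormOdd 4 F) W → Cfsg.Geo.IsMaximalIn (Cfsg.Geo.omegaGL (Cfsg.quadFormOdd 4 F)) (Cfsg.Geo.subspaceStabilizer W ⊓ Cfsg.Geo.omegaGL (Cfsg.quadFormOdd 4 F))) := by
  have h2 : (2 : F) ≠ 0 := Cfsg.Agent.Lib.OrthOmega.two_ne_zero_of_odd hodd
  have hQ := nine_nondeg hodd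
  have hc : Fintype.card (Unit ⊕ (Fin 4 ⊕ Fin 4)) = 9 := by simp
  intro W hW0 hW
  refine Cfsg.Agent.Lib.Subspaces.Transvection.isMaximalIn_of inf_le_right ?_ fun M hHM hMK g hgM hgH => ?_
  · obtain ⟨g, hg, hg'⟩ := Cfsg.Agent.Lib.TableRelax.OrthSingular.exists_omega_not_stab hQ (by omega) hW0 hW
    exact ⟨g, hg, fun h => hg' h.1⟩
  refine Cfsg.Agent.Lib.TableRelax.OrthSingular.omega_le_of_ts hQ (by omega) hW0 hW ?_ hMK
    (fun h h1 h2 => hHM ⟨h1, h2⟩) hgM fun h => hgH ⟨h, hMK hgM⟩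
  by_cases h : 3 + 2 * Module.finrank F W ≤ Fintype.card (Unit ⊕ (Fin 4 ⊕ Fin 4))
  · exact Or.inl h
  refine Or.inr fun r hr hrp => ?_
  by_contra hrW
  obtain ⟨U, hU, hUd, hle⟩ := Cfsg.Agent.Lib.Subspaces.OrthSingular.ext_bound hQ hW hr hrp hrW
  omega

theorem nondeg_nine (hodd : Odd (Fintype.card F)) :
    (∀ W : Submodule F (Unit ⊕ (Fin 4 ⊕ Fin 4) → F), W ≠ ⊥ → Even (Module.finrank F W) → Cfsg.Geo.IsNondegenerateOn (QuadraticMap.polar (Cfsg.quadFormOdd 4 F)) W → ¬ (Fintype.card F = 3 ∧ Module.finrank F W = 2 ∧ Cfsg.Geo.IsPlusTypeOn (Cfsg.quadFormOdd 4 F) W) → Cfsg.Geo.IsMaximalIn (Cfsg.Geo.omegaGL (Cfsg.quadFormOdd 4 F)) (Cfsg.Geo.subspaceStabilizer W ⊓ Cfsg.Geo.omegaGL (Cfsg.quadFormOdd 4 F))) := by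
  have h2 : (2 : F) ≠ 0 := Cfsg.Agent.Lib.OrthOmega.two_ne_zero_of_odd hodd
  have hQ := nine_nondeg hodd
  have hc : Fintype.card (Unit ⊕ (Fin 4 ⊕ Fin 4)) = 9 := by simp
  intro W hW0 hev hW hex
  obtain ⟨j, hj⟩ := hev
  have hdim := Cfsg.Agent.Lib.TableRelax.OrthNondeg.finrank_add_perpQ (hQ := hQ) hW
  refine Cfsg.Agent.Lib.TableRelax.OrthNondegMax.maximal_nondeg hQ h2 (by omega) (Or.inl ⟨4, by simp⟩) hW0 (fun h => ?_) hW ?_ ?_
    fun h => ?_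
  · rw [h, finrank_top, Module.finrank_fintype_fun_eq_card] at hj
    omega
  · rintro ⟨hq, hd, e, he, he0, heQ⟩
    rw [Nat.card_eq_fintype_card] at hq
    refine hex ⟨?_, hd, Cfsg.Agent.Lib.TableRelax.OrthNondegMax.plus_of_singular hQ hd he he0 heQ⟩
    obtain ⟨i, hi⟩ := hodd
    have := Fintype.one_lt_card (α := F)
    omega
  · rintro ⟨-, hd, -⟩
    omega
  · omega

theorem frame_nine (hodd : Odd (Fintype.card F)) :
    ((Fintype.card F).Prime → ∀ D : Fin 9 → Submodule F (Unit ⊕ (Fin 4 ⊕ Fin 4) → F), Cfsg.Geo.IsOrthogonalMDecomposition (Cfsg.quadFormOdd 4 F) 1 D → Cfsg.Geo.IsMaximalIn (Cfsg.Geo.omegaGL (Cfsg.quadFormOdd 4 F)) (Cfsg.Geo.decompositionStabilizer D ⊓ Cfsg.Geo.omegaGL (Cfsg.quadFormOdd 4 F))) := by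
  have h2 : (2 : F) ≠ 0 := Cfsg.Agent.Lib.OrthOmega.two_ne_zero_of_odd hodd
  have hQ := nine_nondeg hodd
  have hc : Fintype.card (Unit ⊕ (Fin 4 ⊕ Fin 4)) = 9 := by simp
  intro hprime D hD
  obtain ⟨S⟩ := Cfsg.Agent.TableRelax.Mono.Transfer.exists_std hQ h2 hD
  exact S.maximal hQ h2 (Or.inr (by omega)) hD hprime

theorem threeSpaces_nine (hodd : Odd (Fintype.card F)) :
    (5 ≤ Fintype.card F → ∀ D : Fin 3 → Submodule F (Unit ⊕ (Fin 4 ⊕ Fin 4) → F), Cfsg.Geo.IsOrthogonalMDecomposition (Cfsg.quadFormOdd 4 F) 3 D → Cfsg.Geo.IsMaximalIn (Cfsg.Geo.omegaGL (Cfsg.quadFormOdd 4 F)) (Cfsg.Geo.decompositionStabilizer D ⊓ Cfsg.Geo.omegaGL (Cfsg.quadFormOdd 4 F))) := by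
  have h2 : (2 : F) ≠ 0 := Cfsg.Agent.Lib.OrthOmega.two_ne_zero_of_odd hodd
  have hQ := nine_nondeg hodd
  have hc : Fintype.card (Unit ⊕ (Fin 4 ⊕ Fin 4)) = 9 := by simp
  intro hq D hD
  refine Cfsg.Agent.Lib.Subspaces.OrthDecompOdd.maximal_of_three_le hQ h2 (by omega) hD le_rfl ?_ le_rfl
  rintro ⟨h, -⟩
  rw [Nat.card_eq_fintype_card] at h
  omega

theorem subfield_nine (hodd : Odd (Fintype.card F)) :
    (∀ (F₀ : Subfield F) (r : ℕ) (P : Matrix.GeneralLinearGroup (Unit ⊕ (Fin 4 ⊕ Fin 4)) F), r.Prime → Fintype.card F = Nat.card F₀ ^ r → Cfsg.Geo.IsQuadFormRationalStructure (Cfsg.quadFormOdd 4 F) F₀ P → Cfsg.Geo.IsMaximalIn (Cfsg.Geo.omegaGL (Cfsg.quadFormOdd 4 F)) (Cfsg.Geo.subfieldSubgroup F₀ P ⊓ Cfsg.Geo.omegaGL (Cfsg.quadFormOdd 4 F))) := by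
  have h2 : (2 : F) ≠ 0 := Cfsg.Agent.Lib.OrthOmega.two_ne_zero_of_odd hodd
  have hQ := nine_nondeg hodd
  have hc : Fintype.card (Unit ⊕ (Fin 4 ⊕ Fin 4)) = 9 := by simp
  intro F₀ r P hr hcard hP
  refine Cfsg.Agent.Lib.SubfieldSeven.OrthSubfield.maximal hQ (by omega) ⟨4, by simp⟩ F₀ r hr hcard P 1 one_ne_zero
    fun u hu => ?_
  simpa using hP u hu

end Cfsg.Agent.Lib.TableRelax.OmegaNine
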