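import Cfsg.Agent.Lib.Subspaces.OrthSingular

/-!
Overgroups in `Ω` of the stabiliser of a non-degenerate subspace `W` of a quadratic space given by
a function (any characteristic).
-/

set_option autoImplicit false

namespace Cfsg.Agent.Lib.TableRelax.OrthNondeg

open Matrix Cfsg.Agent.Lib.Subspaces.Transvection Cfsg.Agent.Lib.Subspaces.FormVec
  Cfsg.Agent.Lib.Subspaces.OrthForm Cfsg.Agent.Lib.Subspaces.OrthLines
  Cfsg.Agent.Lib.Subspaces.OmegaGL Cfsg.Agent.Lib.Subspaces.OrthSingular
open scoped commutatorElement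

variable {ι : Type} [Fintype ι] [DecidableEq ι] {F : Type*} [Field F] {Q : (ι → F) → F}

local notation "B" => QuadraticMap.polar Q

/-- The polar orthogonal of a subspace. -/
def perpQ (hQ : Cfsg.Geo.IsNondegenerateQuadraticForm Q) (W : Submodule F (ι → F)) :
    Submodule F (ι → F) where
  carrier := {x | ∀ w ∈ W, B x w = 0}
  add_mem' := fun {a b} ha hb w hw => by
    rw [hQ.polar_bilinear.add_left, ha w hw, hb w hw, add_zero]
  zero_mem' := fun w _ => form_zero_left (bil hQ) w
  smul_mem' := fun c a ha w hw => by rw [hQ.polar_bilinear.smul_left, ha w hw, mul_zero]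

variable {hQ : Cfsg.Geo.IsNondegenerateQuadraticForm Q}

theorem finrank_perpQ_ge (W : Submodule F (ι → F)) :
    Fintype.card ι ≤ Module.finrank F W + Module.finrank F (perpQ hQ W) := by
  obtain ⟨b⟩ : Nonempty (Module.Basis (Fin (Module.finrank F W)) F W) := ⟨Module.finBasis F W⟩
  by_contra hlt
  obtain ⟨z, hz, hzb⟩ := exists_common_zero_not_mem (perpQ hQ W)
    (fun i => formVec B (b i : ι → F)) (by omega)
  refine hz fun w hw => perp_span' hQ hzb w ?_
  have h3 := congrArg (fun x : W => (x : ι → F)) (b.sum_repr ⟨w, hw⟩)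
  simp only [Submodule.coe_sum, Submodule.coe_smul] at h3
  rw [← h3]
  exact Submodule.sum_mem _ fun i _ => Submodule.smul_mem _ _ (Submodule.subset_span ⟨i, rfl⟩)

theorem perpQ_perpQ [Finite F] (W : Submodule F (ι → F)) : perpQ hQ (perpQ hQ W) = W := by
  refine le_antisymm (fun z hz => ?_) fun w hw u hu => ?_
  · by_contra hzW
    obtain ⟨t, ht, htz⟩ := dual hQ hzW
    exact one_ne_zero (htz.symm.trans (by rw [B_comm]; exact hz t ht))
  · rw [B_comm]; exact hu w hw

theorem inf_perp_ge (U V : Submodule F (ι → F)) :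
    Module.finrank F U ≤ Module.finrank F ↥(U ⊓ perpQ hQ V) + Module.finrank F V := by
  have h1 := Submodule.finrank_sup_add_finrank_inf_eq U (perpQ hQ V)
  have h2 : Module.finrank F ↥(U ⊔ perpQ hQ V) ≤ Fintype.card ι :=
    le_trans (Submodule.finrank_le _) (le_of_eq (Module.finrank_fintype_fun_eq_card F))
  have h3 := finrank_perpQ_ge (hQ := hQ) V
  omega

theorem exists_split {W : Submodule F (ι → F)} (hW : Cfsg.Geo.IsNondegenerateOn B W) (x : ι → F) :
    ∃ w ∈ W, x - w ∈ perpQ hQ W := by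
  have hbot : W ⊓ perpQ hQ W = ⊥ := by
    rw [eq_bot_iff]
    rintro y ⟨hy, hy'⟩
    rw [Submodule.mem_bot]
    by_contra hy0
    obtain ⟨-, z, hz, hyz⟩ := hW y hy hy0
    exact hyz (hy' z hz)
  have htop : W ⊔ perpQ hQ W = ⊤ := by
    apply Submodule.eq_top_of_finrank_eq
    have h1 := Submodule.finrank_sup_add_finrank_inf_eq W (perpQ hQ W)
    rw [hbot, finrank_bot, add_zero] at h1
    refine le_antisymm (Submodule.finrank_le _) ?_
    rw [h1, Module.finrank_fintype_fun_eq_card]
    exact finrank_perpQ_ge W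
  obtain ⟨w, hw, r, hr, rfl⟩ := Submodule.mem_sup.mp (htop ▸ Submodule.mem_top (x := x))
  exact ⟨w, hw, by rwa [add_sub_cancel_left]⟩

theorem finrank_add_perpQ {W : Submodule F (ι → F)} (hW : Cfsg.Geo.IsNondegenerateOn B W) :
    Module.finrank F W + Module.finrank F (perpQ hQ W) = Fintype.card ι := by
  refine le_antisymm ?_ (finrank_perpQ_ge W)
  have hbot : W ⊓ perpQ hQ W = ⊥ := by
    rw [eq_bot_iff]
    rintro y ⟨hy, hy'⟩
    rw [Submodule.mem_bot]
    by_contra hy0
    obtain ⟨-, z, hz, hyz⟩ := hW y hy hy0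
    exact hyz (hy' z hz)
  have h1 := Submodule.finrank_sup_add_finrank_inf_eq W (perpQ hQ W)
  rw [hbot, finrank_bot, add_zero] at h1
  rw [← h1, ← Module.finrank_fintype_fun_eq_card F]
  exact Submodule.finrank_le _

theorem perpQ_nondeg {W : Submodule F (ι → F)}
    (hW : Cfsg.Geo.IsNondegenerateOn B W) : Cfsg.Geo.IsNondegenerateOn B (perpQ hQ W) := by
  intro u hu hu0
  obtain ⟨-, y, hy⟩ := hQ.nondegenerate u hu0
  obtain ⟨w, hw, hyw⟩ := exists_split (hQ := hQ) hW y
  have : B u (y - w) = B u y := by rw [sub_right hQ, hu w hw, sub_zero]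
  exact ⟨⟨y - w, hyw, by rw [B_comm, this]; exact hy⟩, ⟨y - w, hyw, by rw [this]; exact hy⟩⟩

/-- A singular non-zero vector in a subspace of dimension at least three. -/
theorem exists_singular_in [Finite F] (hQ : Cfsg.Geo.IsNondegenerateQuadraticForm Q)
    {S : Submodule F (ι → F)} (hS : 3 ≤ Module.finrank F S) : ∃ v ∈ S, v ≠ 0 ∧ Q v = 0 := by
  let P : QuadraticForm F S := (qf hQ).comp S.subtype
  have hP : ∀ x : S, P x = Q (x : ι → F) := fun x => rfl
  by_cases hnd : Cfsg.Agent.Lib.Forms.Nondeg P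
  · obtain ⟨e, he0, he⟩ := Cfsg.Agent.Lib.OrthOmega.exists_singular hnd hS
    exact ⟨e, e.2, fun h => he0 (Subtype.ext h), by rwa [hP] at he⟩
  simp only [Cfsg.Agent.Lib.Forms.Nondeg, not_forall] at hnd
  obtain ⟨r, hr, hr0⟩ := hnd
  have hr0' : (r : ι → F) ≠ 0 := fun h => hr0 (Subtype.ext h)
  have hpol : ∀ y : S, B (r : ι → F) (y : ι → F) = 0 := fun y => by
    simpa [QuadraticMap.polar, hP] using hr y
  by_cases hQr : Q (r : ι → F) = 0
  · exact ⟨r, r.2, hr0', hQr⟩
  have h2 : (2 : F) = 0 := by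
    have := hpol r
    rw [B_self hQ] at this
    exact (mul_eq_zero.mp this).resolve_right hQr
  obtain ⟨v, hv, hvr⟩ : ∃ v ∈ S, v ∉ Submodule.span F {(r : ι → F)} := by
    by_contra h
    push Not at h
    have := Submodule.finrank_mono (show S ≤ Submodule.span F {(r : ι → F)} from h)
    rw [finrank_span_singleton hr0'] at this
    omega
  have : Fintype F := Fintype.ofFinite F
  have hc : ringChar F = 2 := by
    have : CharP F 2 := CharTwo.of_one_ne_zero_of_two_eq_zero one_ne_zero h2
    exact ringChar.eq F 2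
  obtain ⟨a, ha⟩ := FiniteField.isSquare_of_char_two hc (-Q v / Q (r : ι → F))
  refine ⟨v + a • (r : ι → F), S.add_mem hv (S.smul_mem _ r.2), fun h => hvr ?_, ?_⟩
  · rw [eq_neg_of_add_eq_zero_left h]
    exact Submodule.neg_mem _ (Submodule.smul_mem _ _ (Submodule.mem_span_singleton_self _))
  · rw [Q_add_smul hQ, B_comm v, hpol ⟨v, hv⟩, mul_zero, add_zero, pow_two, ← ha,
      div_mul_cancel₀ _ hQr, add_neg_cancel]

/-- A singular vector of `S` outside `V`. -/
theorem exists_singular_avoid [Finite F] (hQ : Cfsg.Geo.IsNondegenerateQuadraticForm Q)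
    {S V : Submodule F (ι → F)} (h : Module.finrank F V + 3 ≤ Module.finrank F S) :
    ∃ v ∈ S, v ∉ V ∧ Q v = 0 := by
  obtain ⟨C, hC⟩ := Submodule.exists_isCompl (V.comap S.subtype)
  have h1 := Submodule.finrank_add_eq_of_isCompl hC
  have h2 : Module.finrank F ↥(V.comap S.subtype) ≤ Module.finrank F V := by
    rw [← Submodule.finrank_map_subtype_eq]
    exact Submodule.finrank_mono (Submodule.map_comap_le _ _)
  obtain ⟨v, hv, hv0, hvQ⟩ := exists_singular_in hQ (S := C.map S.subtype)
    (by rw [Submodule.finrank_map_subtype_eq]; omega)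
  obtain ⟨v', hv', rfl⟩ := hv
  refine ⟨(v' : ι → F), v'.2, fun hvV => hv0 ?_, hvQ⟩
  have : v' ∈ V.comap S.subtype ⊓ C := ⟨hvV, hv'⟩
  rw [hC.inf_eq_bot, Submodule.mem_bot] at this
  simp [this]

/-- The dual vector inside a non-degenerate subspace. -/
theorem dual_in [Finite F] (hQ : Cfsg.Geo.IsNondegenerateQuadraticForm Q)
    {U : Submodule F (ι → F)} (hU : Cfsg.Geo.IsNondegenerateOn B U) {V : Submodule F (ι → F)}
    (hVU : V ≤ U) {z : ι → F} (hz : z ∈ U) (hzV : z ∉ V) :
    ∃ t ∈ U, (∀ s ∈ V, B t s = 0) ∧ B t z = 1 := by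
  obtain ⟨t, ht, htz⟩ := dual hQ hzV
  obtain ⟨u, hu, htu⟩ := exists_split (hQ := hQ) hU t
  have key : ∀ s ∈ U, B u s = B t s := fun s hs => by
    have := htu s hs
    rw [form_sub_left (bil hQ), sub_eq_zero] at this
    exact this.symm
  exact ⟨u, hu, fun s hs => by rw [key s (hVU hs)]; exact ht s hs, by rw [key z hz, htz]⟩

/-- An anisotropic vector of `U` orthogonal to `V ≤ U`, off the radical of `V`. -/
theorem exists_aniso_perp [Finite F] (hQ : Cfsg.Geo.IsNondegenerateQuadraticForm Q)
    {U : Submodule F (ι → F)} (hU : Cfsg.Geo.IsNondegenerateOn B U) {V : Submodule F (ι → F)}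
    (hVU : V ≤ U) {S : Submodule F (ι → F)} (hS : S ≤ U ⊓ perpQ hQ V)
    (hrad : ∀ r ∈ S, (∀ s ∈ S, B r s = 0) → ∀ s ∈ U ⊓ perpQ hQ V, B r s = 0)
    (hd : Module.finrank F ↥(V ⊓ perpQ hQ V) < Module.finrank F S) :
    ∃ y ∈ S, Q y ≠ 0 := by
  by_contra h
  push Not at h
  have hBS : ∀ r ∈ S, ∀ s ∈ S, B r s = 0 := fun r hr s hs => by
    rw [QuadraticMap.polar, h _ (S.add_mem hr hs), h r hr, h s hs]; ring
  have hle : S ≤ V ⊓ perpQ hQ V := fun r hr => by
    refine ⟨?_, (hS hr).2⟩
    by_contra hrV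
    obtain ⟨t, ht, htV, htr⟩ := dual_in hQ hU hVU (hS hr).1 hrV
    have h0 := hrad r hr (hBS r hr) t ⟨ht, htV⟩
    rw [B_comm] at h0
    exact one_ne_zero (htr.symm.trans h0)
  have := Submodule.finrank_mono hle
  omega

/-- A vector of `U` orthogonal to a small `V ≤ U` with prescribed value of `Q` (odd characteristic). -/
theorem exists_value [Finite F] (hQ : Cfsg.Geo.IsNondegenerateQuadraticForm Q) (h2 : (2 : F) ≠ 0)
    {U : Submodule F (ι → F)} (hU : Cfsg.Geo.IsNondegenerateOn B U)
    (hUd : 4 ≤ Module.finrank F U) {V : Submodule F (ι → F)} (hVU : V ≤ U)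
    (hVd : Module.finrank F V ≤ 2)
    (hVr : Module.finrank F V ≤ 1 ∨ ∀ r ∈ V, (∀ s ∈ V, B r s = 0) → r = 0) (c : F) :
    ∃ y ∈ U, (∀ s ∈ V, B y s = 0) ∧ Q y = c := by
  have hb := hQ.polar_bilinear
  set S := U ⊓ perpQ hQ V with hSdef
  have hdim : Module.finrank F ↥(V ⊓ perpQ hQ V) + 2 ≤ Module.finrank F S := by
    have h1 := inf_perp_ge (hQ := hQ) U V
    rw [← hSdef] at h1
    rcases hVr with h | h
    · have h3 : Module.finrank F ↥(V ⊓ perpQ hQ V) ≤ Module.finrank F V :=
        Submodule.finrank_mono inf_le_left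
      omega
    · have : V ⊓ perpQ hQ V = ⊥ := by
        rw [eq_bot_iff]; rintro r ⟨hr, hr'⟩; exact h r hr hr'
      rw [this, finrank_bot]; omega
  obtain ⟨y1, hy1, hy1Q⟩ := exists_aniso_perp hQ hU hVU (le_refl S) (fun r _ h => h) (by omega)
  have hself : B y1 y1 ≠ 0 := by rw [B_self hQ]; exact mul_ne_zero h2 hy1Q
  have hd' := inf_perp_ge (hQ := hQ) S (Submodule.span F {y1})
  have h1' : Module.finrank F (Submodule.span F {y1}) ≤ 1 :=
    (finrank_span_le_card _).trans (by simp)
  obtain ⟨y2, hy2, hy2Q⟩ := exists_aniso_perp hQ hU hVU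
    (S := S ⊓ perpQ hQ (Submodule.span F {y1})) inf_le_left (fun r hr h s hs => by
      have hr1 : B r y1 = 0 := hr.2 y1 (Submodule.mem_span_singleton_self y1)
      have hs' : s + (-(B s y1 / B y1 y1)) • y1 ∈ S ⊓ perpQ hQ (Submodule.span F {y1}) := by
        refine ⟨S.add_mem hs (S.smul_mem _ hy1), fun w hw => ?_⟩
        obtain ⟨k, rfl⟩ := Submodule.mem_span_singleton.mp hw
        rw [hb.smul_right, hb.add_left, hb.smul_left, neg_mul, div_mul_cancel₀ _ hself,
          add_neg_cancel, mul_zero]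
      have := h _ hs'
      rwa [hb.add_right, hb.smul_right, hr1, mul_zero, add_zero] at this) (by omega)
  have h21 : B y2 y1 = 0 := hy2.2 y1 (Submodule.mem_span_singleton_self y1)
  obtain ⟨p, q, hpq⟩ : ∃ p q : F, -c + Q y1 * p ^ 2 + Q y2 * q ^ 2 = 0 := by
    have := Fintype.ofFinite F
    have hc : ringChar F ≠ 2 := fun e => h2 (by
      have : CharP F 2 := ringChar.eq_iff.mp e
      exact_mod_cast CharP.cast_eq_zero F 2)
    open Polynomial in
    obtain ⟨p, q, h⟩ := FiniteField.exists_root_sum_quadratic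
      (f := C (Q y1) * X ^ 2 + C 0 * X + C (-c)) (g := C (Q y2) * X ^ 2 + C 0 * X + C 0)
      (degree_quadratic hy1Q) (degree_quadratic hy2Q) (FiniteField.odd_card_of_char_ne_two hc)
    refine ⟨p, q, ?_⟩
    simp at h
    linear_combination h
  have hm : p • y1 + q • y2 ∈ S := S.add_mem (S.smul_mem _ hy1) (S.smul_mem _ hy2.1)
  refine ⟨_, hm.1, hm.2, ?_⟩
  rw [Q_add (Q := Q), hQ.smul, hQ.smul, hb.smul_left, hb.smul_right, B_comm y1 y2, h21]
  linear_combination hpq

theorem finrank_pair_le (a b : ι → F) : Module.finrank F (Submodule.span F {a, b}) ≤ 2 := by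
  classical
  have := finrank_span_finset_le_card (R := F) ({a, b} : Finset (ι → F))
  rw [Finset.coe_pair] at this
  exact this.trans Finset.card_le_two

theorem mem_perp_pair {hQ : Cfsg.Geo.IsNondegenerateQuadraticForm Q} {a b y : ι → F}
    (h : ∀ s ∈ Submodule.span F {a, b}, B y s = 0) : B y a = 0 ∧ B y b = 0 :=
  ⟨h a (Submodule.subset_span (by simp)), h b (Submodule.subset_span (by simp))⟩

/-- Two singular vectors of `U` with non-zero product have a common singular pivot in `U`. -/
theorem exists_pivot [Finite F] (hQ : Cfsg.Geo.IsNondegenerateQuadraticForm Q) (h2 : (2 : F) ≠ 0)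
    {U : Submodule F (ι → F)} (hU : Cfsg.Geo.IsNondegenerateOn B U)
    (hUd : 4 ≤ Module.finrank F U) {a x : ι → F} (ha : a ∈ U) (hx : x ∈ U) (haQ : Q a = 0)
    (hxQ : Q x = 0) (hne : B a x ≠ 0) :
    ∃ p ∈ U, Q p = 0 ∧ B a p = 1 ∧ B x p = 1 := by
  have hb := hQ.polar_bilinear
  set t := (B a x)⁻¹ • (a + x) with ht
  obtain ⟨y, hy, hys, hyQ⟩ := exists_value hQ h2 hU hUd
    (Submodule.span_le.mpr (by
      intro z hz
      rcases hz with rfl | rfl <;> assumption) : Submodule.span F {a, x} ≤ U)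
    (finrank_pair_le a x) (Or.inr fun r hr hrV => by
      have h1 := hrV a (Submodule.subset_span (by simp))
      have h2' := hrV x (Submodule.subset_span (by simp))
      obtain ⟨c, d, rfl⟩ := Submodule.mem_span_pair.mp hr
      rw [hb.add_left, hb.smul_left, hb.smul_left, B_self hQ, haQ, B_comm x a] at h1
      rw [hb.add_left, hb.smul_left, hb.smul_left, B_self hQ, hxQ] at h2'
      have hd0 : d = 0 := (mul_eq_zero.mp (show d * B a x = 0 by linear_combination h1)).resolve_right hne
      have hc0 : c = 0 := (mul_eq_zero.mp (show c * B a x = 0 by linear_combination h2')).resolve_right hne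
      rw [hc0, hd0, zero_smul, zero_smul, add_zero]) (-Q t)
  obtain ⟨hya, hyx⟩ := mem_perp_pair (hQ := hQ) hys
  refine ⟨t + y, U.add_mem (U.smul_mem _ (U.add_mem ha hx)) hy, ?_, ?_, ?_⟩
  · rw [Q_add (Q := Q), hyQ, ht, hb.smul_left, hb.add_left, B_comm a y, B_comm x y, hya, hyx]
    ring
  · rw [hb.add_right, ht, hb.smul_right, hb.add_right, B_self hQ, haQ, mul_zero, zero_add,
      B_comm a y, hya, add_zero, inv_mul_cancel₀ hne]
  · rw [hb.add_right, ht, hb.smul_right, hb.add_right, B_self hQ, hxQ, mul_zero, add_zero,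
      B_comm x y, hyx, add_zero, B_comm x a, inv_mul_cancel₀ hne]

/-- The product of the reflections in two orthogonal vectors of the same norm lies in `Ω`. -/
theorem exists_refl_pair [Finite F] (hQ : Cfsg.Geo.IsNondegenerateQuadraticForm Q)
    (hn : 5 ≤ Fintype.card ι) {x y : ι → F} (hxQ : Q x ≠ 0) (hy : Q y = Q x)
    (hxy : B x y = 0) :
    ∃ g ∈ Cfsg.Geo.omegaGL Q, ∀ z, (g : Matrix ι ι F) *ᵥ z =
      z + (-((Q x)⁻¹ * B z x)) • x + (-((Q x)⁻¹ * B z y)) • y := by
  have hb := hQ.polar_bilinear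
  have hnd := qf_nondeg hQ
  have hy0 : Q y ≠ 0 := hy ▸ hxQ
  obtain ⟨k, hk, hkx⟩ := Cfsg.Agent.Lib.Forms.witt_one hnd (v := x) (w := y)
    (fun e => hxQ (by rw [e, Q_zero hQ])) (fun e => hy0 (by rw [e, Q_zero hQ]))
    (by rw [qf_apply, qf_apply, hy])
  let K : Cfsg.Agent.Lib.Forms.orth (qf hQ) := ⟨k, hk⟩
  let X := Cfsg.Agent.Lib.Forms.orefl (qf hQ) x
  let Y := Cfsg.Agent.Lib.Forms.orefl (qf hQ) y
  have hY : K * X * K⁻¹ = Y := Subtype.ext (by
    show k * Cfsg.Agent.Lib.Forms.refl (qf hQ) x * k⁻¹ = _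
    rw [Cfsg.Agent.Lib.Forms.refl_conj hk, hkx]; rfl)
  have hX : X⁻¹ = X := Subtype.ext (Cfsg.Agent.Lib.Forms.refl_inv (qf hQ) x)
  have hmem : X * Y ∈ Cfsg.Agent.Lib.OrthOmega.EG (qf hQ) := by
    rw [← Cfsg.Agent.Lib.OrthOmega.commutator_eq_EG hnd
      (by rwa [Module.finrank_fintype_fun_eq_card]), commutator_def]
    have : X * Y = ⁅X, K⁆ := by
      rw [commutatorElement_def, ← hY, hX]; group
    rw [this]
    exact Subgroup.commutator_mem_commutator (Subgroup.mem_top _) (Subgroup.mem_top _)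
  let φ := Cfsg.Agent.Lib.Forms.isoOrth (qf hQ) (f := Q) (fun v => (qf_apply hQ v).symm)
  have hgv : ∀ z, (((φ.symm (X * Y)) : GL ι F) : Matrix ι ι F) *ᵥ z = (X * Y).1 z := fun z => by
    rw [← Cfsg.Agent.Lib.Forms.isoOrth_apply (qf hQ) (f := Q) (fun v => (qf_apply hQ v).symm)]
    show (φ (φ.symm (X * Y))).1 z = _
    rw [φ.apply_symm_apply]
  refine ⟨((φ.symm (X * Y)) : GL ι F), (mem_omegaGL hQ hn).mpr ⟨X * Y, hmem, fun z => (hgv z).symm⟩,
    fun z => ?_⟩
  rw [hgv]
  show Cfsg.Agent.Lib.Forms.refl (qf hQ) x (Cfsg.Agent.Lib.Forms.refl (qf hQ) y z) = _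
  rw [Cfsg.Agent.Lib.Forms.refl_apply, Cfsg.Agent.Lib.Forms.refl_apply]
  show z - ((Q y)⁻¹ * B y z) • y - ((Q x)⁻¹ * B x (z - ((Q y)⁻¹ * B y z) • y)) • x = _
  rw [sub_right hQ, hb.smul_right, hxy, hy, B_comm y z, B_comm x z]
  module

variable {M : Subgroup (GL ι F)}

/-- An invariant subspace of `W` is zero or everything, outside the excluded planes. -/
theorem eq_of_invariant [Finite F] (hQ : Cfsg.Geo.IsNondegenerateQuadraticForm Q)
    {W A : Submodule F (ι → F)} (hW : Cfsg.Geo.IsNondegenerateOn B W) (hAW : A ≤ W) (hA0 : A ≠ ⊥)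
    (hrefl : ∀ x ∈ W, Q x ≠ 0 → ∀ a ∈ A, ((Q x)⁻¹ * B a x) • x ∈ A)
    (hsieg : ∀ e ∈ W, ∀ w ∈ W, Q e = 0 → B w e = 0 → ∀ a ∈ A,
      B a e • w + (-(B a w) - Q w * B a e) • e ∈ A)
    (hex : ¬ (Nat.card F ≤ 3 ∧ Module.finrank F W = 2 ∧ ∃ e ∈ W, e ≠ 0 ∧ Q e = 0)) : A = W := by
  have hb := hQ.polar_bilinear
  by_contra hne
  obtain ⟨z, hzW, hzA⟩ := SetLike.exists_of_lt (lt_of_le_of_ne hAW hne)
  set A' := W ⊓ perpQ hQ A with hA'
  have hA'mem : ∀ {v}, v ∈ A' → v ∈ W ∧ ∀ a ∈ A, B v a = 0 := fun h => h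
  have hani : ∀ x ∈ W, Q x ≠ 0 → x ∈ A ∨ x ∈ A' := by
    intro x hx hxQ
    by_cases h : ∀ a ∈ A, B x a = 0
    · exact Or.inr ⟨hx, h⟩
    · push Not at h
      obtain ⟨a, ha, hxa⟩ := h
      have hc : (Q x)⁻¹ * B a x ≠ 0 := mul_ne_zero (inv_ne_zero hxQ) (by rw [B_comm]; exact hxa)
      have := A.smul_mem ((Q x)⁻¹ * B a x)⁻¹ (hrefl x hx hxQ a ha)
      rw [smul_smul, inv_mul_cancel₀ hc, one_smul] at this
      exact Or.inl this
  by_cases hR : ∃ r, r ≠ 0 ∧ r ∈ A ∧ r ∈ A'
  · obtain ⟨r, hr0, hrA, hrA'⟩ := hR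
    obtain ⟨-, e, heW, hre⟩ := hW r (hAW hrA) hr0
    have hsing : ∀ v ∈ W, B r v ≠ 0 → Q v = 0 := by
      intro v hv hrv
      by_contra hvQ
      rcases hani v hv hvQ with h | h
      · exact hrv ((hA'mem hrA').2 v h)
      · exact hrv (by rw [B_comm]; exact (hA'mem h).2 r hrA)
    have heQ := hsing e heW hre
    have hrr : B r r = 0 := (hA'mem hrA').2 r hrA
    have hd : ∀ d : F, d ≠ 0 → d * Q r + B e r = 0 := by
      intro d hd
      have := hsing (e + d • r) (W.add_mem heW (W.smul_mem _ (hAW hrA)))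
        (by rw [hb.add_right, hb.smul_right, hrr, mul_zero, add_zero]; exact hre)
      rw [Q_add_smul hQ, heQ, zero_add] at this
      refine (mul_eq_zero.mp (?_ : d * (d * Q r + B e r) = 0)).resolve_left hd
      linear_combination this
    have hq : ∀ d : F, d ≠ 0 → d = 1 := by
      intro d hd0
      have h1 := hd 1 one_ne_zero
      have h2 := hd d hd0
      have hQr : Q r ≠ 0 := fun h => hre (by
        rw [h, mul_zero, zero_add] at h1
        rw [B_comm]; exact h1)
      exact mul_right_cancel₀ hQr (by linear_combination h2 - h1)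
    have hcard : Nat.card F ≤ 3 := by
      classical
      have : Fintype F := Fintype.ofFinite F
      rw [Nat.card_eq_fintype_card]
      calc Fintype.card F ≤ ({0, 1} : Finset F).card := by
            rw [← Finset.card_univ]
            refine Finset.card_le_card fun d _ => ?_
            by_cases h : d = 0
            · simp [h]
            · simp [hq d h]
        _ ≤ 3 := le_trans Finset.card_le_two (by omega)
    have hre0 : e ≠ 0 := fun h => hre (by rw [h, zero_right hQ])
    have hk : Module.finrank F W ≤ 2 := by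
      by_contra hk
      push Not at hk
      have h1 := inf_perp_ge (hQ := hQ) W (Submodule.span F {r, e})
      have h2 := finrank_pair_le r e
      obtain ⟨w, ⟨hwW, hwp⟩, hw0⟩ := Submodule.exists_mem_ne_zero_of_ne_bot
        (p := W ⊓ perpQ hQ (Submodule.span F {r, e})) (fun h => by rw [h, finrank_bot] at h1; omega)
      obtain ⟨hwr, hwe⟩ := mem_perp_pair (hQ := hQ) hwp
      have key : ∀ w ∈ W, B w r = 0 → B w e = 0 → Q w = 0 := by
        intro w hwW hwr hwe
        have := hsing (e + w) (W.add_mem heW hwW)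
          (by rw [hb.add_right, B_comm r w, hwr, add_zero]; exact hre)
        rwa [Q_add (Q := Q), heQ, zero_add, B_comm e w, hwe, add_zero] at this
      obtain ⟨-, y, hyW, hwy⟩ := hW w hwW hw0
      set β := B r e
      have hQe : B e e = 0 := by rw [B_self hQ, heQ, mul_zero]
      set y' := y + (-(B y r / β)) • e + (-(B y e / β)) • r with hy'
      have hy'W : y' ∈ W :=
        W.add_mem (W.add_mem hyW (W.smul_mem _ heW)) (W.smul_mem _ (hAW hrA))
      have h3 : B y' r = 0 := by
        rw [hy', hb.add_left, hb.add_left, hb.smul_left, hb.smul_left, hrr, B_comm e r, neg_mul,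
          div_mul_cancel₀ _ hre]; ring
      have h4 : B y' e = 0 := by
        rw [hy', hb.add_left, hb.add_left, hb.smul_left, hb.smul_left, hQe,
          neg_mul (B y e / β), div_mul_cancel₀ _ hre]; ring
      have h5 : B w y' = B w y := by
        rw [hy', hb.add_right, hb.add_right, hb.smul_right, hb.smul_right, hwe, hwr]; ring
      have h6 := key (w + y') (W.add_mem hwW hy'W) (by rw [hb.add_left, hwr, h3, add_zero])
        (by rw [hb.add_left, hwe, h4, add_zero])
      rw [Q_add (Q := Q), key w hwW hwr hwe, key y' hy'W h3 h4, h5, zero_add, zero_add] at h6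
      exact hwy h6
    refine hex ⟨hcard, le_antisymm hk ?_, e, heW, hre0, heQ⟩
    have hle : Submodule.span F {r, e} ≤ W := Submodule.span_le.mpr (by
      intro v hv
      rcases hv with rfl | rfl
      · exact hAW hrA
      · exact heW)
    by_contra hlt
    push Not at hlt
    have h1 : r ∉ Submodule.span F {e} := fun hm => by
      obtain ⟨c, hc⟩ := Submodule.mem_span_singleton.mp hm
      apply hre
      rw [← hc, hb.smul_left, B_self hQ, heQ, mul_zero, mul_zero]
    have h2 : Submodule.span F {e} < W := lt_of_le_of_ne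
      ((Submodule.span_singleton_le_iff_mem _ _).mpr heW)
      fun h => h1 (h ▸ hAW hrA)
    have := Submodule.finrank_lt_finrank_of_lt h2
    rw [finrank_span_singleton hre0] at this
    omega
  push Not at hR
  -- now `W` is the orthogonal sum of `A` and `A'`
  have hinf : A ⊓ A' = ⊥ := by
    rw [eq_bot_iff]
    rintro v ⟨h1, h2⟩
    rw [Submodule.mem_bot]
    by_contra hv
    exact hR v hv h1 h2
  have hsum : A ⊔ A' = W := by
    refine Submodule.eq_of_le_of_finrank_le (sup_le hAW inf_le_left) ?_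
    have h1 := Submodule.finrank_sup_add_finrank_inf_eq A A'
    rw [hinf, finrank_bot, add_zero] at h1
    have := inf_perp_ge (hQ := hQ) W A
    rw [← hA'] at this
    omega
  have hAnd : ∀ a ∈ A, a ≠ 0 → ∃ b ∈ A, B a b = 1 := by
    intro a ha ha0
    obtain ⟨-, y, hy, hay⟩ := hW a (hAW ha) ha0
    obtain ⟨b, hb', b', hb'', rfl⟩ := Submodule.mem_sup.mp (hsum.symm ▸ hy : y ∈ A ⊔ A')
    rw [hb.add_right, B_comm a b', (hA'mem hb'').2 a ha, add_zero] at hay
    exact ⟨(B a b)⁻¹ • b, A.smul_mem _ hb', by rw [hb.smul_right, inv_mul_cancel₀ hay]⟩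
  have hA'nd : ∀ a ∈ A', a ≠ 0 → ∃ b ∈ A', B a b = 1 := by
    intro a ha ha0
    obtain ⟨-, y, hy, hay⟩ := hW a (hA'mem ha).1 ha0
    obtain ⟨b, hb', b', hb'', rfl⟩ := Submodule.mem_sup.mp (hsum.symm ▸ hy : y ∈ A ⊔ A')
    rw [hb.add_right, (hA'mem ha).2 b hb', zero_add] at hay
    exact ⟨(B a b')⁻¹ • b', A'.smul_mem _ hb'', by rw [hb.smul_right, inv_mul_cancel₀ hay]⟩
  obtain ⟨a0, ha0, ha00⟩ := Submodule.exists_mem_ne_zero_of_ne_bot hA0
  obtain ⟨z1, hz1, hz10⟩ : ∃ z1 ∈ A', z1 ≠ 0 := by
    obtain ⟨a, ha, a', ha', rfl⟩ := Submodule.mem_sup.mp (hsum.symm ▸ hzW : z ∈ A ⊔ A')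
    exact ⟨a', ha', fun h => hzA (by rwa [h, add_zero])⟩
  have hanA : ∃ x ∈ A, Q x ≠ 0 := by
    by_contra h
    push Not at h
    obtain ⟨b, hb', hab⟩ := hAnd a0 ha0 ha00
    rw [QuadraticMap.polar, h _ (A.add_mem ha0 hb'), h a0 ha0, h b hb'] at hab
    simp at hab
  have hanA' : ∃ x ∈ A', Q x ≠ 0 := by
    by_contra h
    push Not at h
    obtain ⟨b, hb', hab⟩ := hA'nd z1 hz1 hz10
    rw [QuadraticMap.polar, h _ (A'.add_mem hz1 hb'), h z1 hz1, h b hb'] at hab
    simp at hab
  have hmix : ∀ x ∈ A, x ≠ 0 → ∀ y ∈ A', y ≠ 0 → Q x + Q y = 0 := by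
    intro x hx hx0 y hy hy0
    have h0 : B x y = 0 := by rw [B_comm]; exact (hA'mem hy).2 x hx
    by_contra h
    have hQs : Q (x + y) ≠ 0 := by rwa [Q_add (Q := Q), h0, add_zero]
    rcases hani _ (W.add_mem (hAW hx) (hA'mem hy).1) hQs with h1 | h1
    · exact hR y hy0 (by simpa using A.sub_mem h1 hx) hy
    · exact hR x hx0 hx (by simpa using A'.sub_mem h1 hy)
  obtain ⟨x, hx, hxQ⟩ := hanA
  obtain ⟨y, hy, hyQ⟩ := hanA'
  have hx0 : x ≠ 0 := fun h => hxQ (by rw [h, Q_zero hQ])
  have hy0 : y ≠ 0 := fun h => hyQ (by rw [h, Q_zero hQ])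
  have hconstA : ∀ v ∈ A, v ≠ 0 → Q v = Q x := fun v hv hv0 => by
    linear_combination hmix v hv hv0 y hy hy0 - hmix x hx hx0 y hy hy0
  have hconstA' : ∀ v ∈ A', v ≠ 0 → Q v = Q y := fun v hv hv0 => by
    linear_combination hmix x hx hx0 v hv hv0 - hmix x hx hx0 y hy hy0
  have hsq : ∀ c : F, c ≠ 0 → c ^ 2 = 1 := fun c hc => by
    have := hconstA (c • x) (A.smul_mem c hx) (smul_ne_zero hc hx0)
    rw [hQ.smul] at this
    exact mul_right_cancel₀ hxQ (by linear_combination this)
  have hcard : Nat.card F ≤ 3 := by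
    classical
    have : Fintype F := Fintype.ofFinite F
    rw [Nat.card_eq_fintype_card]
    calc Fintype.card F ≤ ({0, 1, -1} : Finset F).card := by
          rw [← Finset.card_univ]
          refine Finset.card_le_card fun d _ => ?_
          by_cases h : d = 0
          · simp [h]
          · rcases sq_eq_one_iff.mp (hsq d h) with h' | h' <;> simp [h']
      _ ≤ 3 := Finset.card_le_three
  have hxy : B x y = 0 := by rw [B_comm]; exact (hA'mem hy).2 x hx
  have heQ : Q (x + y) = 0 := by rw [Q_add (Q := Q), hxy, add_zero]; exact hmix x hx hx0 y hy hy0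
  have he0 : x + y ≠ 0 := fun h => hR x hx0 hx (by
    rw [eq_neg_of_add_eq_zero_left h]; exact A'.neg_mem hy)
  by_cases hsmall : (∀ v ∈ A, v ∈ Submodule.span F {x}) ∧ ∀ v ∈ A', v ∈ Submodule.span F {y}
  · refine hex ⟨hcard, ?_, x + y, W.add_mem (hAW hx) (hA'mem hy).1, he0, heQ⟩
    have h1 : A = Submodule.span F {x} :=
      le_antisymm hsmall.1 ((Submodule.span_singleton_le_iff_mem _ _).mpr hx)
    have h2 : A' = Submodule.span F {y} :=
      le_antisymm hsmall.2 ((Submodule.span_singleton_le_iff_mem _ _).mpr hy)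
    have h3 := Submodule.finrank_sup_add_finrank_inf_eq A A'
    rw [hinf, finrank_bot, add_zero, hsum, h1, h2, finrank_span_singleton hx0,
      finrank_span_singleton hy0] at h3
    exact h3
  -- one of them has dimension at least two, so the characteristic is two
  have h2 : (2 : F) = 0 := by
    have key : ∀ (S : Submodule F (ι → F)) (p : ι → F), p ∈ S → Q p ≠ 0 →
        (∀ v ∈ S, v ≠ 0 → Q v = Q p) → (∃ v ∈ S, v ∉ Submodule.span F {p}) → (2 : F) = 0 := by
      intro S p hp hpQ hc ⟨v, hv, hvp⟩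
      have hv0 : v ≠ 0 := fun h => hvp (h ▸ Submodule.zero_mem _)
      have hne : ∀ c : F, v + c • p ≠ 0 := fun c h => hvp (by
        rw [eq_neg_of_add_eq_zero_left h]
        exact Submodule.neg_mem _ (Submodule.smul_mem _ _ (Submodule.mem_span_singleton_self _)))
      have e1 := hc _ (S.add_mem hv (S.smul_mem 1 hp)) (hne 1)
      have e2 := hc _ (S.add_mem hv (S.smul_mem (-1) hp)) (hne (-1))
      rw [Q_add_smul hQ, hc v hv hv0] at e1 e2
      refine (mul_eq_zero.mp (?_ : (2 : F) * Q p = 0)).resolve_right hpQ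
      linear_combination e1 + e2
    by_cases h : ∀ v ∈ A, v ∈ Submodule.span F {x}
    · have h' : ∃ v ∈ A', v ∉ Submodule.span F {y} := by
        by_contra hh
        push Not at hh
        exact hsmall ⟨h, hh⟩
      exact key A' y hy hyQ hconstA' h'
    · push Not at h
      exact key A x hx hxQ hconstA h
  obtain ⟨x', hx', hxx'⟩ := hAnd x hx hx0
  obtain ⟨y', hy', hyy'⟩ := hA'nd y hy hy0
  have hwe : B (x' + y') (x + y) = 0 := by
    rw [hb.add_left, hb.add_right, hb.add_right, B_comm x' x, hxx',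
      B_comm y' y, hyy', B_comm x' y, (hA'mem hy).2 x' hx', (hA'mem hy').2 x hx]
    linear_combination h2
  set c := -(B x' (x' + y')) - Q (x' + y') * B x' (x + y) with hc
  have hxe : B x' (x + y) = 1 := by
    rw [hb.add_right, B_comm x' x, hxx', B_comm x' y, (hA'mem hy).2 x' hx', add_zero]
  have hm := hsieg (x + y) (W.add_mem (hAW hx) (hA'mem hy).1) (x' + y')
    (W.add_mem (hAW hx') (hA'mem hy').1) heQ hwe x' hx'
  rw [← hc, hxe, one_smul] at hm
  have hm' : y' + c • y ∈ A := by
    have := A.sub_mem (A.sub_mem hm hx') (A.smul_mem c hx)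
    rwa [show x' + y' + c • (x + y) - x' - c • x = y' + c • y by module] at this
  have h0 : y' + c • y = 0 := by
    by_contra h
    exact hR _ h hm' (A'.add_mem hy' (A'.smul_mem c hy))
  have := hyy'
  rw [eq_neg_of_add_eq_zero_left h0, ← neg_smul, hb.smul_right, B_self hQ, h2, zero_mul,
    mul_zero] at this
  exact zero_ne_one this

/-- Singular vectors of a large non-degenerate subspace span it. -/
theorem span_singular_in [Finite F] (hQ : Cfsg.Geo.IsNondegenerateQuadraticForm Q)
    {U : Submodule F (ι → F)} (hU : Cfsg.Geo.IsNondegenerateOn B U)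
    (hUd : 3 ≤ Module.finrank F U) :
    ∀ z ∈ U, z ∈ Submodule.span F {v : ι → F | v ∈ U ∧ Q v = 0} := by
  have hb := hQ.polar_bilinear
  intro z hz
  set S := Submodule.span F {v : ι → F | v ∈ U ∧ Q v = 0}
  obtain ⟨u, hu, hu0, huQ⟩ := exists_singular_in hQ (S := U) (by omega)
  obtain ⟨f, hf, -, hfu⟩ := dual_in hQ hU (bot_le : (⊥ : Submodule F (ι → F)) ≤ U) hu
    (by simpa using hu0)
  have huS : u ∈ S := Submodule.subset_span ⟨hu, huQ⟩
  have key : ∀ y ∈ U, B y u = 1 → y ∈ S := by
    intro y hy hyu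
    have h1 : y + (-Q y) • u ∈ S := Submodule.subset_span ⟨U.add_mem hy (U.smul_mem _ hu), by
      rw [Q_add_smul hQ, huQ, hyu]; ring⟩
    have := S.sub_mem h1 (S.smul_mem (-Q y) huS)
    rwa [add_sub_cancel_right] at this
  have h1 := key (z + (1 - B z u) • f) (U.add_mem hz (U.smul_mem _ hf))
    (by rw [hb.add_left, hb.smul_left, hfu]; ring)
  have := S.sub_mem h1 (S.smul_mem (1 - B z u) (key f hf hfu))
  rwa [add_sub_cancel_right] at this

/-- An overgroup in `Ω` of the stabiliser of a non-degenerate subspace `W` is that stabiliser or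
contains `Ω`. -/
theorem omega_le_of_nondeg [Finite F] (hQ : Cfsg.Geo.IsNondegenerateQuadraticForm Q) (h2 : (2 : F) ≠ 0)
    (hn : 6 < Fintype.card ι) {W : Submodule F (ι → F)} (hW0 : W ≠ ⊥)
    (hW : Cfsg.Geo.IsNondegenerateOn B W) (hle : 2 * Module.finrank F W ≤ Fintype.card ι)
    (hstrict : 2 * Module.finrank F W < Fintype.card ι ∨ 10 < Fintype.card ι)
    (hex : ¬ (Nat.card F ≤ 3 ∧ Module.finrank F W = 2 ∧ ∃ e ∈ W, e ≠ 0 ∧ Q e = 0))
    (hMS : M ≤ Cfsg.Geo.omegaGL Q)
    (hswap : ∀ g ∈ M, ¬ ∀ u ∈ perpQ hQ W, (g : Matrix ι ι F) *ᵥ u ∈ W)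
    (hP : ∀ g : GL ι F, g ∈ Cfsg.Geo.subspaceStabilizer W → g ∈ Cfsg.Geo.omegaGL Q → g ∈ M)
    {g : GL ι F} (hgM : g ∈ M) (hg : g ∉ Cfsg.Geo.subspaceStabilizer W) :
    Cfsg.Geo.omegaGL Q ≤ M := by
  classical
  have hb := hQ.polar_bilinear
  have hn5 : 5 ≤ Fintype.card ι := by omega
  have hdim := finrank_add_perpQ (hQ := hQ) hW
  set U := perpQ hQ W with hUdef
  have hUn : Cfsg.Geo.IsNondegenerateOn B U := perpQ_nondeg hW
  have hUd : 4 ≤ Module.finrank F U := by omega
  have horth : ∀ w ∈ W, ∀ u ∈ U, B w u = 0 ∧ B u w = 0 :=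
    fun w hw u hu => ⟨by rw [B_comm]; exact hu w hw, hu w hw⟩
  have hiso : ∀ h ∈ M, ∀ x, Q ((h : Matrix ι ι F) *ᵥ x) = Q x :=
    fun h hh => omega_isometry hQ (hMS hh)
  -- Siegel elements inside one of the two summands
  have hsU : ∀ u ∈ U, Q u = 0 → ∀ w ∈ U, B w u = 0 → sieg Q u w ∈ M := by
    intro u hu huQ w hw hwu
    refine hP _ (mem_subspaceStabilizer_iff.mpr fun x hx => ?_) (sieg_mem_omega hQ hn5 huQ hwu)
    rw [sieg_mulVec hQ huQ hwu, (horth x hx u hu).1, (horth x hx w hw).1, mul_zero, sub_zero,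
      neg_zero, zero_smul, zero_smul, add_zero, add_zero]
    exact hx
  have hsW : ∀ u ∈ W, Q u = 0 → ∀ w ∈ W, B w u = 0 → sieg Q u w ∈ M := by
    intro u hu huQ w hw hwu
    refine hP _ (mem_subspaceStabilizer_iff.mpr fun x hx => ?_) (sieg_mem_omega hQ hn5 huQ hwu)
    rw [sieg_mulVec hQ huQ hwu]
    exact W.add_mem (W.add_mem hx (W.smul_mem _ hw)) (W.smul_mem _ hu)
  have hlU : ∀ u ∈ U, ∀ w ∈ U, Q u = 0 → Q w = 0 → B u w = 0 → Line Q M u w :=
    fun u hu w hw huQ hwQ huw => ⟨huQ, hwQ, huw, fun c => hsU _ (U.smul_mem c hu)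
      (by rw [hQ.smul, huQ, mul_zero]) w hw (by rw [hb.smul_right, B_comm, huw, mul_zero])⟩
  -- a singular vector of `U` with a Siegel element along `W`
  obtain ⟨a, ha, ha0, haQ, w0, hw0, hw00, hw0M⟩ : ∃ a ∈ U, a ≠ 0 ∧ Q a = 0 ∧
      ∃ w ∈ W, w ≠ 0 ∧ sieg Q a w ∈ M := by
    by_contra hno
    push Not at hno
    have hdiff : ∀ {v p q : ι → F}, Q v = 0 → B p v = 0 → B q v = 0 → sieg Q v p ∈ M →
        sieg Q v q ∈ M → sieg Q v (p - q) ∈ M := by
      intro v p q hv hp hq h h'
      have he := sieg_add_right hQ hv (show B (p - q) v = 0 by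
        rw [form_sub_left (bil hQ), hp, hq, sub_zero]) hq
      rw [sub_add_cancel] at he
      rw [eq_mul_inv_of_mul_eq he.symm]
      exact M.mul_mem h (M.inv_mem h')
    apply hg
    -- images of singular vectors of `U`
    have himg : ∀ u ∈ U, Q u = 0 →
        (g : Matrix ι ι F) *ᵥ u ∈ W ∨ (g : Matrix ι ι F) *ᵥ u ∈ U := by
      intro u hu huQ
      obtain ⟨zW, hzW, hzUm⟩ := exists_split (hQ := hQ) hW ((g : Matrix ι ι F) *ᵥ u)
      set z := (g : Matrix ι ι F) *ᵥ u with hzdef
      by_contra hcon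
      push Not at hcon
      obtain ⟨hc1, hc2⟩ := hcon
      have hzQ : Q z = 0 := by rw [hzdef, hiso g hgM, huQ]
      set zU := z - zW with hzU
      have hzU0 : zU ≠ 0 := fun h => hc1 (sub_eq_zero.mp h ▸ hzW)
      have hzW0 : zW ≠ 0 := fun h => hc2 (by rwa [hzU, h, sub_zero] at hzUm)
      have hzsum : z = zW + zU := (add_sub_cancel zW z).symm
      have hzB : ∀ x ∈ U, B z x = B zU x := fun x hx => by
        rw [hzsum, hb.add_left, (horth zW hzW x hx).1, zero_add]
      have hu0 : u ≠ 0 := fun h => hc1 (by rw [hzdef, h, mulVec_zero]; exact W.zero_mem)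
      set Y := (U ⊓ perpQ hQ (Submodule.span F {u})).map (Matrix.mulVecLin (g : Matrix ι ι F))
        with hY
      have hYz : ∀ y ∈ Y, B y z = 0 ∧ sieg Q z y ∈ M := by
        rintro _ ⟨v, ⟨hv, hvu⟩, rfl⟩
        have hvu' : B v u = 0 := hvu u (Submodule.mem_span_singleton_self u)
        show B ((g : Matrix ι ι F) *ᵥ v) z = 0 ∧ sieg Q z ((g : Matrix ι ι F) *ᵥ v) ∈ M
        refine ⟨by rw [hzdef, B_map (hiso g hgM), hvu'], ?_⟩
        rw [hzdef, ← conj_sieg hQ (hiso g hgM) huQ hvu']
        exact M.mul_mem (M.mul_mem hgM (hsU u hu huQ v hv hvu')) (M.inv_mem hgM)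
      -- a root element at `z` along `U` is absurd
      have hfin : ∀ p ∈ U, p ≠ 0 → Q p = 0 → B zU p = 0 → sieg Q z p ∈ M → False := by
        intro p hp hp0 hpQ hzp hm
        have hzp' : B z p = 0 := by rw [hzB p hp, hzp]
        have hnQ : Q (-p) = 0 := by rw [← neg_one_smul F p, hQ.smul, hpQ, mul_zero]
        have hzn : B z (-p) = 0 := by rw [← neg_one_smul F p, hb.smul_right, hzp', mul_zero]
        have heq : sieg Q z p = sieg Q (-p) z := gl_ext fun x => by
          rw [lsieg_mulVec hQ hzQ hpQ hzp', lsieg_mulVec hQ hnQ hzQ (by rw [B_comm]; exact hzn),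
            ← neg_one_smul F p, hb.smul_right]
          module
        refine hno (-p) (U.neg_mem hp) (neg_ne_zero.mpr hp0) hnQ zW hzW hzW0 ?_
        have hU' : B zU (-p) = 0 := by rw [← neg_one_smul F p, hb.smul_right, hzp, mul_zero]
        rw [heq, hzsum, sieg_add_right hQ hnQ (horth zW hzW (-p) (U.neg_mem hp)).1 hU'] at hm
        simpa using M.mul_mem hm (M.inv_mem (hsU (-p) (U.neg_mem hp) hnQ zU hzUm hU'))
      -- Siegel elements inside `U` fixing `z`
      have hmove : ∀ a ∈ U, ∀ x ∈ U, Q a = 0 → B x a = 0 → B zU a = 0 → B zU x = 0 → ∀ y ∈ Y,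
          B (B y a • x + (-(B y x) - Q x * B y a) • a) z = 0 ∧
          sieg Q z (B y a • x + (-(B y x) - Q x * B y a) • a) ∈ M := by
        intro a ha x hx haQ hxa hza hzx y hy
        have hza' : B z a = 0 := by rw [hzB a ha, hza]
        have hzx' : B z x = 0 := by rw [hzB x hx, hzx]
        obtain ⟨hyz, hym⟩ := hYz y hy
        have hh := fun v => sieg_isometry hQ haQ hxa v
        have hzfix : (sieg Q a x : Matrix ι ι F) *ᵥ z = z := by
          rw [sieg_mulVec hQ haQ hxa, hza', hzx']; simp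
        set y' := (sieg Q a x : Matrix ι ι F) *ᵥ y with hy'
        have h1 := M.mul_mem (M.mul_mem (hsU a ha haQ x hx hxa) hym)
          (M.inv_mem (hsU a ha haQ x hx hxa))
        rw [conj_sieg hQ hh hzQ hyz, hzfix] at h1
        have hy'z : B y' z = 0 := by
          conv_lhs => rw [hy', ← hzfix, B_map hh]
          exact hyz
        have hd : y' - y = B y a • x + (-(B y x) - Q x * B y a) • a := by
          rw [hy', sieg_mulVec hQ haQ hxa]; abel
        rw [← hd]
        exact ⟨by rw [form_sub_left (bil hQ), hy'z, hyz, sub_zero],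
          hdiff hzQ hy'z hyz h1 hym⟩
      -- every `y` is orthogonal to every singular vector of `U` orthogonal to `zU`
      have hperpa : ∀ a ∈ U, a ≠ 0 → Q a = 0 → B zU a = 0 → ∀ y ∈ Y, B y a = 0 := by
        intro a ha ha0 haQ hza y hy
        by_contra hya
        by_cases hind : Q zU = 0 ∧ a ∉ Submodule.span F {zU}
        · obtain ⟨hzUQ, haz⟩ := hind
          have haz' : B a zU = 0 := by rw [B_comm]; exact hza
          obtain ⟨-, h4⟩ := hmove zU hzUm a ha hzUQ haz'
            (by rw [B_self hQ, hzUQ, mul_zero]) hza y hy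
          rw [haQ, zero_mul, sub_zero] at h4
          refine hfin _ (U.add_mem (U.smul_mem _ ha) (U.smul_mem _ hzUm)) (fun h0 => ?_) ?_ ?_ h4
          · rcases eq_or_ne (B y zU) 0 with h | h
            · rw [h, zero_smul, zero_add] at h0
              exact hya (neg_eq_zero.mp ((smul_eq_zero.mp h0).resolve_right hzU0))
            · refine haz (Submodule.mem_span_singleton.mpr ⟨(B y zU)⁻¹ * B y a, ?_⟩)
              rw [← smul_smul, show B y a • zU = B y zU • a by
                  linear_combination (norm := module) -h0,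
                smul_smul, inv_mul_cancel₀ h, one_smul]
          · rw [Q_add (Q := Q), hQ.smul, hQ.smul, haQ, hzUQ, hb.smul_left, hb.smul_right, haz']
            ring
          · rw [hb.add_right, hb.smul_right, hb.smul_right, hza, B_self hQ, hzUQ]; ring
        set V := Submodule.span F {a, zU}
        have hVU : V ≤ U := Submodule.span_le.mpr (by
          intro v hv
          rcases hv with rfl | rfl <;> assumption)
        have hV2 : Module.finrank F V ≤ 2 := finrank_pair_le a zU
        have hS := inf_perp_ge (hQ := hQ) U V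
        have hrad : Module.finrank F ↥(V ⊓ perpQ hQ V) ≤ 1 := by
          by_cases hz0 : Q zU = 0
          · have haz : a ∈ Submodule.span F {zU} := not_not.mp fun h => hind ⟨hz0, h⟩
            exact le_trans (Submodule.finrank_mono (inf_le_left.trans (Submodule.span_le.mpr (by
              intro v hv
              rcases hv with rfl | rfl
              · exact haz
              · exact Submodule.mem_span_singleton_self _) : V ≤ Submodule.span F {zU})))
              ((finrank_span_le_card _).trans (by simp))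
          · refine le_trans (Submodule.finrank_mono (show V ⊓ perpQ hQ V ≤ Submodule.span F {a} from ?_))
              ((finrank_span_le_card _).trans (by simp))
            rintro r ⟨hr, hr'⟩
            obtain ⟨c, d, rfl⟩ := Submodule.mem_span_pair.mp hr
            have h := hr' zU (Submodule.subset_span (by simp))
            rw [hb.add_left, hb.smul_left, hb.smul_left, B_comm a zU, hza, B_self hQ, mul_zero,
              zero_add] at h
            rw [(mul_eq_zero.mp h).resolve_right (mul_ne_zero h2 hz0), zero_smul, add_zero]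
            exact Submodule.smul_mem _ _ (Submodule.mem_span_singleton_self a)
        obtain ⟨x, hx, hxQ⟩ := exists_aniso_perp hQ hUn hVU (S := U ⊓ perpQ hQ V) le_rfl
          (fun r _ h => h) (by omega)
        obtain ⟨hxa, hxz⟩ := mem_perp_pair (hQ := hQ) hx.2
        obtain ⟨h1, h1'⟩ := hmove a ha x hx.1 haQ hxa hza (by rw [B_comm]; exact hxz) y hy
        obtain ⟨h3, h3'⟩ := hmove a ha (-x) (U.neg_mem hx.1) haQ
          (by rw [← neg_one_smul F x, hb.smul_left, hxa, mul_zero]) hza
          (by rw [← neg_one_smul F x, hb.smul_right, B_comm, hxz, mul_zero]) y hy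
        have hQn : Q (-x) = Q x := by rw [← neg_one_smul F x, hQ.smul]; ring
        have hBn : B y (-x) = -B y x := by rw [← neg_one_smul F x, hb.smul_right]; ring
        have hsum := M.mul_mem h1' h3'
        rw [← sieg_add_right hQ hzQ h1 h3, hQn, hBn] at hsum
        rw [show B y a • x + (-(B y x) - Q x * B y a) • a +
            (B y a • -x + (- -B y x - Q x * B y a) • a) = (-(2 * Q x * B y a)) • a by module] at hsum
        exact hfin _ (U.smul_mem _ ha)
          (smul_ne_zero (neg_ne_zero.mpr (mul_ne_zero (mul_ne_zero h2 hxQ) hya)) ha0)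
          (by rw [hQ.smul, haQ, mul_zero]) (by rw [hb.smul_right, hza, mul_zero]) hsum
      have hu1 : Module.finrank F (Submodule.span F {u}) ≤ 1 :=
        (finrank_span_le_card _).trans (by simp)
      have hUu := inf_perp_ge (hQ := hQ) U (Submodule.span F {u})
      by_cases hcase : ∃ a ∈ U, Q a = 0 ∧ B zU a = 0 ∧ a ∉ Submodule.span F {zU}
      · obtain ⟨a, ha, haQ, hza, hazU⟩ := hcase
        have ha0 : a ≠ 0 := fun h => hazU (h ▸ Submodule.zero_mem _)
        obtain ⟨x, hx, hxV, hxz⟩ : ∃ x ∈ U, (∀ v ∈ Submodule.span F {a}, B x v = 0) ∧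
            B x zU = 1 := dual_in hQ hUn ((Submodule.span_singleton_le_iff_mem _ _).mpr ha) hzUm
              (fun hm => by
                obtain ⟨c, hc⟩ := Submodule.mem_span_singleton.mp hm
                have hc0 : c ≠ 0 := fun h => hzU0 (by rw [← hc, h, zero_smul])
                exact hazU (Submodule.mem_span_singleton.mpr ⟨c⁻¹, by
                  rw [← hc, smul_smul, inv_mul_cancel₀ hc0, one_smul]⟩))
        have hxa : B x a = 0 := hxV a (Submodule.mem_span_singleton_self a)
        obtain ⟨v, hv, hvQ⟩ := exists_aniso_perp hQ hUn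
          ((Submodule.span_singleton_le_iff_mem _ _).mpr hu)
          (S := U ⊓ perpQ hQ (Submodule.span F {u})) le_rfl (fun r _ h => h) (by
            have : Module.finrank F
                ↥(Submodule.span F {u} ⊓ perpQ hQ (Submodule.span F {u})) ≤ 1 :=
              le_trans (Submodule.finrank_mono inf_le_left) hu1
            omega)
        set y := (g : Matrix ι ι F) *ᵥ v with hydef
        have hyY : y ∈ Y := ⟨v, hv, rfl⟩
        have hyQ : Q y ≠ 0 := by rwa [hydef, hiso g hgM]
        obtain ⟨hyz, hym⟩ := hYz y hyY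
        have hya := hperpa a ha ha0 haQ hza y hyY
        have hza' : B z a = 0 := by rw [hzB a ha, hza]
        have hzx' : B z x = 1 := by rw [hzB x hx, B_comm, hxz]
        have hh := fun w => sieg_isometry hQ haQ hxa w
        have hhM := hsU a ha haQ x hx hxa
        have h1 := M.mul_mem (M.mul_mem hhM hym) (M.inv_mem hhM)
        rw [conj_sieg hQ hh hzQ hyz, sieg_mulVec hQ haQ hxa, sieg_mulVec hQ haQ hxa, hza', hzx',
          hya] at h1
        simp only [mul_zero, sub_zero, zero_smul, add_zero] at h1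
        set z' := z + (-1 : F) • a with hz'
        set y' := y + (-B y x) • a with hy'
        have haz : B a z = 0 := by rw [B_comm]; exact hza'
        have hay : B a y = 0 := by rw [B_comm]; exact hya
        have hz'Q : Q z' = 0 := by rw [hz', Q_add_smul hQ, hzQ, haQ, hza']; ring
        have hy'z' : B y' z' = 0 := by
          simp only [hy', hz', hb.add_left, hb.add_right, hb.smul_left, hb.smul_right, hyz, hya,
            haz, B_self hQ, haQ, mul_zero, add_zero]
        have hz'z : B z' z = 0 := by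
          rw [hz', hb.add_left, hb.smul_left, B_self hQ, hzQ, haz]; ring
        have hz'y : B z' y = 0 := by
          rw [hz', hb.add_left, hb.smul_left, B_comm z y, hyz, hay]; ring
        have hg1 := fun w => sieg_isometry hQ hzQ hyz w
        have h3 := M.mul_mem (M.mul_mem hym h1) (M.inv_mem hym)
        rw [conj_sieg hQ hg1 hz'Q hy'z'] at h3
        have hfz : (sieg Q z y : Matrix ι ι F) *ᵥ z' = z' := by
          rw [sieg_mulVec hQ hzQ hyz, hz'z, hz'y]; simp
        have hfy : (sieg Q z y : Matrix ι ι F) *ᵥ y' = y' + (-(2 * Q y)) • z := by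
          have e1 : B y' z = 0 := by rw [hy', hb.add_left, hb.smul_left, hyz, haz]; ring
          have e2 : B y' y = 2 * Q y := by rw [hy', hb.add_left, hb.smul_left, B_self hQ, hay]; ring
          rw [sieg_mulVec hQ hzQ hyz, e1, e2]; simp
        rw [hfz, hfy] at h3
        have h4 := hdiff hz'Q (by
          rw [hb.add_left, hb.smul_left, hy'z', B_comm z z', hz'z]; ring) hy'z' h3 h1
        rw [add_sub_cancel_left] at h4
        have heq : sieg Q z' ((-(2 * Q y)) • z) = sieg Q z ((-(2 * Q y)) • a) := gl_ext fun w => by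
          rw [lsieg_mulVec hQ hz'Q (by rw [hQ.smul, hzQ, mul_zero])
              (by rw [hb.smul_right, hz'z, mul_zero]),
            lsieg_mulVec hQ hzQ (by rw [hQ.smul, haQ, mul_zero])
              (by rw [hb.smul_right, hza', mul_zero]),
            hb.smul_right, hb.smul_right, hz', hb.add_right, hb.smul_right]
          module
        rw [heq] at h4
        exact hfin _ (U.smul_mem _ ha) (smul_ne_zero (neg_ne_zero.mpr (mul_ne_zero h2 hyQ)) ha0)
          (by rw [hQ.smul, haQ, mul_zero]) (by rw [hb.smul_right, hza, mul_zero]) h4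
      · push Not at hcase
        have hzUQ : Q zU = 0 := by
          by_contra hne
          have hs := inf_perp_ge (hQ := hQ) U (Submodule.span F {zU})
          have hs1 : Module.finrank F (Submodule.span F {zU}) ≤ 1 :=
            (finrank_span_le_card _).trans (by simp)
          obtain ⟨a, ⟨ha, haz⟩, ha0, haQ⟩ := exists_singular_in hQ
            (S := U ⊓ perpQ hQ (Submodule.span F {zU})) (by omega)
          obtain ⟨c, hc⟩ := Submodule.mem_span_singleton.mp (hcase a ha haQ
            (by rw [B_comm]; exact haz zU (Submodule.mem_span_singleton_self zU)))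
          rw [← hc, hQ.smul] at haQ
          have hc0 : c = 0 := pow_eq_zero_iff (two_ne_zero (α := ℕ)) |>.mp
            ((mul_eq_zero.mp haQ).resolve_right hne)
          exact ha0 (by rw [← hc, hc0, zero_smul])
        have hzUzU : B zU zU = 0 := by rw [B_self hQ, hzUQ, mul_zero]
        set T := (W ⊓ perpQ hQ (Submodule.span F {zW})) ⊔ Submodule.span F {zU} with hT
        have hYT : Y ≤ T := by
          intro y hy
          obtain ⟨yW, hyW, hyU⟩ := exists_split (hQ := hQ) hW y
          have hyB : ∀ v ∈ U, B y v = B (y - yW) v := fun v hv => by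
            rw [form_sub_left (bil hQ), (horth yW hyW v hv).1, sub_zero]
          have hyzU : B y zU = 0 := hperpa zU hzUm hzU0 hzUQ hzUzU y hy
          have hmem : y - yW ∈ Submodule.span F {zU} := by
            by_contra hnot
            obtain ⟨t, ht, htz, hty⟩ := dual_in hQ hUn
              ((Submodule.span_singleton_le_iff_mem _ _).mpr hzUm) hyU hnot
            have htz' : B t zU = 0 := htz zU (Submodule.mem_span_singleton_self zU)
            have h := (hmove zU hzUm t ht hzUQ htz' hzUzU (by rw [B_comm]; exact htz') y hy).2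
            rw [hyzU, zero_smul, zero_add, mul_zero, sub_zero, hyB t ht, B_comm, hty] at h
            exact hfin _ (U.smul_mem _ hzUm) (smul_ne_zero (neg_ne_zero.mpr one_ne_zero) hzU0)
              (by rw [hQ.smul, hzUQ, mul_zero]) (by rw [hb.smul_right, hzUzU, mul_zero]) h
          obtain ⟨c, hc⟩ := Submodule.mem_span_singleton.mp hmem
          have hyz := (hYz y hy).1
          rw [hzsum, hb.add_right, hyzU, add_zero, ← add_sub_cancel yW y, ← hc, hb.add_left,
            hb.smul_left, (horth zW hzW zU hzUm).2, mul_zero, add_zero] at hyz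
          rw [← add_sub_cancel yW y]
          refine Submodule.add_mem_sup ⟨hyW, fun w hw => ?_⟩ hmem
          obtain ⟨d, rfl⟩ := Submodule.mem_span_singleton.mp hw
          rw [hb.smul_right, hyz, mul_zero]
        have hTd : Module.finrank F T ≤ Module.finrank F W := by
          have h1 : W ⊓ perpQ hQ (Submodule.span F {zW}) < W := lt_of_le_of_ne inf_le_left fun h => by
            obtain ⟨-, w, hw, hzw⟩ := hW zW hzW hzW0
            rw [B_comm] at hzw
            exact hzw ((inf_eq_left.mp h hw) zW (Submodule.mem_span_singleton_self zW))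
          have h1' := Submodule.finrank_lt_finrank_of_lt h1
          have h3 := Submodule.finrank_sup_add_finrank_inf_eq
            (W ⊓ perpQ hQ (Submodule.span F {zW})) (Submodule.span F {zU})
          rw [← hT, finrank_span_singleton hzU0] at h3
          omega
        have hYd : Module.finrank F Y = Module.finrank F ↥(U ⊓ perpQ hQ (Submodule.span F {u})) :=
          (Submodule.equivMapOfInjective _ (fun p q h => gl_mulVec_injective g h) _).finrank_eq.symm
        have hlt : Module.finrank F W < Module.finrank F U := by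
          rcases hstrict with h | h
          · omega
          by_contra hge
          have hs := inf_perp_ge (hQ := hQ) U (Submodule.span F {zU})
          rw [finrank_span_singleton hzU0] at hs
          obtain ⟨a, ⟨ha, haz⟩, haS, haQ⟩ := exists_singular_avoid hQ
            (S := U ⊓ perpQ hQ (Submodule.span F {zU})) (V := Submodule.span F {zU})
            (by rw [finrank_span_singleton hzU0]; omega)
          exact haS (hcase a ha haQ
            (by rw [B_comm]; exact haz zU (Submodule.mem_span_singleton_self zU)))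
        have hYeq : Y = T := Submodule.eq_of_le_of_finrank_le hYT (by omega)
        -- `zU` would be the image of a vector of the radical of `U ⊓ u^⊥`
        obtain ⟨v, ⟨hvU, hvu⟩, hvz⟩ : zU ∈ Y := hYeq ▸
          (Submodule.mem_sup_right (Submodule.mem_span_singleton_self zU) : zU ∈ T)
        replace hvz : (g : Matrix ι ι F) *ᵥ v = zU := hvz
        have hvrad : v ∈ Submodule.span F {u} := by
          by_contra hnot
          obtain ⟨t, ht, htu, htv⟩ := dual_in hQ hUn
            ((Submodule.span_singleton_le_iff_mem _ _).mpr hu) hvU hnot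
          have := hperpa zU hzUm hzU0 hzUQ hzUzU _ ⟨t, ⟨ht, htu⟩, rfl⟩
          change B ((g : Matrix ι ι F) *ᵥ t) zU = 0 at this
          rw [← hvz, B_map (hiso g hgM), htv] at this
          exact one_ne_zero this
        obtain ⟨c, hc⟩ := Submodule.mem_span_singleton.mp hvrad
        rw [← hc, mulVec_smul, ← hzdef] at hvz
        refine hzW0 ?_
        by_contra hne
        obtain ⟨-, w, hw, hzw⟩ := hW zW hzW hne
        have h := congrArg (fun q => B q w) hvz
        simp only [hb.smul_left, hzsum, hb.add_left, (horth w hw zU hzUm).2, add_zero] at h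
        rcases mul_eq_zero.mp h with h | h
        · exact hzU0 (by rw [← hvz, h, zero_smul])
        · exact hzw h
    have hspan : ∀ (S : Submodule F (ι → F)),
        (∀ u ∈ U, Q u = 0 → (g : Matrix ι ι F) *ᵥ u ∈ S) →
        ∀ u ∈ U, (g : Matrix ι ι F) *ᵥ u ∈ S := by
      intro S hS u hu
      have hle : Submodule.span F {v : ι → F | v ∈ U ∧ Q v = 0} ≤
          S.comap (Matrix.mulVecLin (g : Matrix ι ι F)) :=
        Submodule.span_le.mpr fun v hv => hS v hv.1 hv.2
      exact hle (span_singular_in hQ hUn (by omega) u hu)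
    by_cases hallU : ∀ u ∈ U, Q u = 0 → (g : Matrix ι ι F) *ᵥ u ∈ U
    · have hgU : g ∈ Cfsg.Geo.subspaceStabilizer U :=
        mem_subspaceStabilizer_iff.mpr (hspan U hallU)
      refine mem_subspaceStabilizer_iff.mpr fun w hw => ?_
      rw [← perpQ_perpQ (hQ := hQ) W]
      intro u hu
      have hu' := mem_subspaceStabilizer_iff.mp
        ((Cfsg.Geo.subspaceStabilizer U).inv_mem hgU) u hu
      rw [← gl_mulVec_inv g u, B_map (hiso g hgM)]
      exact (horth w hw _ hu').1
    · exfalso
      push Not at hallU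
      obtain ⟨u1, hu1, hu1Q, hu1U⟩ := hallU
      have hu1W := (himg u1 hu1 hu1Q).resolve_right hu1U
      refine hswap g hgM (hspan W fun u hu huQ => ?_)
      by_contra huW
      have huU := (himg u hu huQ).resolve_left huW
      have h0 : B u1 u = 0 := by
        rw [← B_map (hiso g hgM)]
        exact (horth _ hu1W _ huU).1
      rcases himg (u1 + u) (U.add_mem hu1 hu)
        (by rw [Q_add (Q := Q), hu1Q, huQ, h0, add_zero, add_zero]) with h | h
      · rw [mulVec_add] at h
        exact huW (by simpa using W.sub_mem h hu1W)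
      · rw [mulVec_add] at h
        exact hu1U (by simpa using U.sub_mem h huU)
  -- conjugation inside `U`
  let Good : (ι → F) → Prop := fun u => ∀ w ∈ W, sieg Q u w ∈ M
  have hconn : ∀ u ∈ U, ∀ x ∈ U, Q u = 0 → Q x = 0 → u ≠ 0 → x ≠ 0 →
      ∀ w ∈ W, sieg Q u w ∈ M → sieg Q x w ∈ M := by
    have near : ∀ u ∈ U, ∀ x ∈ U, Q u = 0 → Q x = 0 → B u x ≠ 0 →
        ∀ w ∈ W, sieg Q u w ∈ M → sieg Q x w ∈ M := by
      intro u hu x hx huQ hxQ hne w hw h
      obtain ⟨p, hp, hpQ, hup, hxp⟩ := exists_pivot hQ h2 hUn hUd hu hx huQ hxQ hne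
      have hw' : B (x - u) p = 0 := by rw [form_sub_left (bil hQ), hxp, hup, sub_self]
      have hgm := hsU p hp hpQ _ (U.sub_mem hx hu) hw'
      have hh := fun y => sieg_isometry hQ hpQ hw' y
      have h1 := M.mul_mem (M.mul_mem hgm h) (M.inv_mem hgm)
      rw [conj_sieg hQ hh huQ (horth w hw u hu).1, move_eq hQ hpQ huQ hxQ hup hxp,
        sieg_mulVec hQ hpQ hw', (horth w hw p hp).1, (horth w hw _ (U.sub_mem hx hu)).1] at h1
      simpa using h1
    intro u hu x hx huQ hxQ hu0 hx0 w hw h
    by_cases hne : B u x = 0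
    swap
    · exact near u hu x hx huQ hxQ hne w hw h
    obtain ⟨⟨y1, hy1, hy1u⟩, -⟩ := hUn u hu hu0
    obtain ⟨⟨y2, hy2, hy2x⟩, -⟩ := hUn x hx hx0
    obtain ⟨y, hy, hyu, hyx⟩ : ∃ y ∈ U, B y u ≠ 0 ∧ B y x ≠ 0 := by
      by_cases h1 : B y1 x ≠ 0
      · exact ⟨y1, hy1, hy1u, h1⟩
      by_cases h2 : B y2 u ≠ 0
      · exact ⟨y2, hy2, h2, hy2x⟩
      push Not at h1 h2
      exact ⟨y1 + y2, U.add_mem hy1 hy2, by rw [hb.add_left, h2, add_zero]; exact hy1u,
        by rw [hb.add_left, h1, zero_add]; exact hy2x⟩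
    set m := y + (-(Q y / B y u)) • u with hm
    have hmQ : Q m = 0 := by
      rw [hm, Q_add_smul hQ, huQ, neg_mul, div_mul_cancel₀ _ hyu]; ring
    have hmU : m ∈ U := U.add_mem hy (U.smul_mem _ hu)
    have hum : B u m ≠ 0 := by
      rw [hm, hb.add_right, hb.smul_right, B_self hQ, huQ, mul_zero, mul_zero, add_zero, B_comm]
      exact hyu
    have hmx : B m x ≠ 0 := by
      rw [hm, hb.add_left, hb.smul_left, hne, mul_zero, add_zero]; exact hyx
    exact near m hmU x hx hmQ hxQ hmx w hw (near u hu m hmU huQ hmQ hum w hw h)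
  -- the subspace of vectors of `W` giving Siegel elements at `a`
  let A : Submodule F (ι → F) :=
    { carrier := {w | w ∈ W ∧ sieg Q a w ∈ M}
      add_mem' := by
        rintro v w ⟨hv, hv'⟩ ⟨hw, hw'⟩
        refine ⟨W.add_mem hv hw, ?_⟩
        rw [sieg_add_right hQ haQ (horth v hv a ha).1 (horth w hw a ha).1]
        exact M.mul_mem hv' hw'
      zero_mem' := ⟨W.zero_mem, hsU a ha haQ 0 U.zero_mem (form_zero_left (bil hQ) a)⟩
      smul_mem' := by
        rintro c w ⟨hw, hw'⟩
        refine ⟨W.smul_mem c hw, ?_⟩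
        rcases eq_or_ne c 0 with rfl | hc
        · rw [zero_smul]; exact hsU a ha haQ 0 U.zero_mem (form_zero_left (bil hQ) a)
        have h1 := hconn a ha (c • a) (U.smul_mem c ha) haQ (by rw [hQ.smul, haQ, mul_zero]) ha0
          (smul_ne_zero hc ha0) w hw hw'
        have heq : sieg Q (c • a) w = sieg Q a (c • w) := gl_ext fun x => by
          rw [sieg_mulVec hQ (by rw [hQ.smul, haQ, mul_zero])
              (by rw [hb.smul_right, (horth w hw a ha).1, mul_zero]),
            sieg_mulVec hQ haQ (by rw [hb.smul_left, (horth w hw a ha).1, mul_zero]), hQ.smul,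
            hb.smul_right, hb.smul_right]
          module
        rwa [heq] at h1 }
  have hA : A = W := by
    refine eq_of_invariant hQ hW (fun w hw => hw.1) (fun h => hw00 ?_) ?_ ?_ hex
    · have : w0 ∈ A := ⟨hw0, hw0M⟩
      rwa [h, Submodule.mem_bot] at this
    · intro x hx hxQ w hwA
      obtain ⟨hw, hw'⟩ := hwA
      obtain ⟨y, hy, hys, hyQ⟩ := exists_value hQ h2 hUn hUd
        ((Submodule.span_singleton_le_iff_mem _ _).mpr ha)
        (by rw [finrank_span_singleton ha0]; omega) (Or.inl (by rw [finrank_span_singleton ha0])) (Q x)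
      have hya : B y a = 0 := hys a (Submodule.mem_span_singleton_self a)
      obtain ⟨r, hrΩ, hr⟩ := exists_refl_pair hQ hn5 hxQ hyQ (horth x hx y hy).1
      have hrM : r ∈ M := hP r (mem_subspaceStabilizer_iff.mpr fun z hz => by
        rw [hr, (horth z hz y hy).1, mul_zero, neg_zero, zero_smul, add_zero]
        exact W.add_mem hz (W.smul_mem _ hx)) hrΩ
      have hra : (r : Matrix ι ι F) *ᵥ a = a := by
        rw [hr, (horth x hx a ha).2, B_comm a y, hya]; simp
      have hrw : (r : Matrix ι ι F) *ᵥ w = w + (-((Q x)⁻¹ * B w x)) • x := by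
        rw [hr, (horth w hw y hy).1]; simp
      have h1 := M.mul_mem (M.mul_mem hrM hw') (M.inv_mem hrM)
      rw [conj_sieg hQ (hiso r hrM) haQ (horth w hw a ha).1, hra, hrw] at h1
      have hA1 : w + (-((Q x)⁻¹ * B w x)) • x ∈ A := ⟨W.add_mem hw (W.smul_mem _ hx), h1⟩
      have := A.sub_mem (⟨hw, hw'⟩ : w ∈ A) hA1
      simpa [neg_smul] using this
    · intro e he w hw heQ hwe v hvA
      obtain ⟨hv, hv'⟩ := hvA
      have hm := hsW e he heQ w hw hwe
      have hh := fun y => sieg_isometry hQ heQ hwe y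
      have h1 := M.mul_mem (M.mul_mem hm hv') (M.inv_mem hm)
      rw [conj_sieg hQ hh haQ (horth v hv a ha).1, sieg_mulVec hQ heQ hwe,
        sieg_mulVec hQ heQ hwe, (horth e he a ha).2, (horth w hw a ha).2, mul_zero, sub_zero,
        neg_zero, zero_smul, zero_smul, add_zero, add_zero] at h1
      have hA1 : v + B v e • w + (-(B v w) - Q w * B v e) • e ∈ A :=
        ⟨W.add_mem (W.add_mem hv (W.smul_mem _ hw)) (W.smul_mem _ he), h1⟩
      have := A.sub_mem hA1 (⟨hv, hv'⟩ : v ∈ A)
      rwa [show v + B v e • w + (-(B v w) - Q w * B v e) • e - v =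
        B v e • w + (-(B v w) - Q w * B v e) • e by abel] at this
  -- every singular vector of `U` is a full centre
  have hFU : ∀ u ∈ U, Q u = 0 → u ≠ 0 → Full Q M u := by
    intro u hu huQ hu0
    refine ⟨huQ, fun w hw => ?_⟩
    obtain ⟨wW, hwW, hwU⟩ := exists_split (hQ := hQ) hW w
    have h1 : B wW u = 0 := (horth wW hwW u hu).1
    have h2 : B (w - wW) u = 0 := by rw [form_sub_left (bil hQ), hw, h1, sub_zero]
    rw [← add_sub_cancel wW w, sieg_add_right hQ huQ h1 h2]
    exact M.mul_mem (hconn a ha u hu haQ huQ ha0 hu0 wW hwW (hA.ge hwW).2) (hsU u hu huQ _ hwU h2)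
  -- singular vectors with a component in `U`
  have hF1 : ∀ z, Q z = 0 → ∀ zU ∈ U, z - zU ∈ W → zU ≠ 0 → Full Q M z := by
    intro z hz zU hzU hzW hzU0
    obtain ⟨t, ht, -, htz⟩ := dual_in hQ hUn (bot_le : (⊥ : Submodule F (ι → F)) ≤ U) hzU
      (by simpa using hzU0)
    obtain ⟨p, hp, hpQ, hzp⟩ : ∃ p ∈ U, Q p = 0 ∧ B zU p = 1 := by
      by_cases hQz : Q zU = 0
      · refine ⟨t + (-Q t) • zU, U.add_mem ht (U.smul_mem _ hzU), by
          rw [Q_add_smul hQ, hQz, htz]; ring, ?_⟩
        rw [hb.add_right, hb.smul_right, B_self hQ, hQz, B_comm zU t, htz]; ring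
      · obtain ⟨y, hy, hys, hyQ⟩ := exists_value hQ h2 hUn hUd
          ((Submodule.span_singleton_le_iff_mem _ _).mpr hzU)
          (by rw [finrank_span_singleton hzU0]; omega)
          (Or.inl (by rw [finrank_span_singleton hzU0])) (-((2 * Q zU)⁻¹ ^ 2 * Q zU))
        have hyz : B y zU = 0 := hys zU (Submodule.mem_span_singleton_self zU)
        refine ⟨(2 * Q zU)⁻¹ • zU + y, U.add_mem (U.smul_mem _ hzU) hy, ?_, ?_⟩
        · rw [Q_add (Q := Q), hQ.smul, hyQ, hb.smul_left, B_comm zU y, hyz]; ring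
        · rw [hb.add_right, hb.smul_right, B_self hQ, B_comm zU y, hyz, add_zero,
            inv_mul_cancel₀ (mul_ne_zero h2 hQz)]
    have hp0 : p ≠ 0 := fun h => one_ne_zero (by rw [← hzp, h, zero_right hQ])
    obtain ⟨f, hf, -, hfp⟩ := dual_in hQ hUn (bot_le : (⊥ : Submodule F (ι → F)) ≤ U) hp
      (by simpa using hp0)
    have hxQ : Q (f + (-Q f) • p) = 0 := by rw [Q_add_smul hQ, hpQ, hfp]; ring
    have hxp : B (f + (-Q f) • p) p = 1 := by
      rw [hb.add_left, hb.smul_left, hfp, B_self hQ, hpQ]; ring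
    have hzp' : B z p = 1 := by
      rw [← sub_add_cancel z zU, hb.add_left, (horth _ hzW p hp).1, hzp, zero_add]
    exact full_move hQ (hFU p hp hpQ hp0) (hFU _ (U.add_mem hf (U.smul_mem _ hp)) hxQ
      (fun h => one_ne_zero (by rw [← hxp, h, form_zero_left (bil hQ)]))) hz hxp hzp'
  refine omega_le_of_full hQ hn5 fun z hz => ?_
  obtain ⟨zW, hzW, hzU⟩ := exists_split (hQ := hQ) hW z
  by_cases h : z - zW = 0
  swap
  · exact hF1 z hz _ hzU (by rwa [sub_sub_cancel]) h
  rw [sub_eq_zero] at h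
  subst h
  rcases eq_or_ne z 0 with rfl | hz0
  · refine ⟨Q_zero hQ, fun w hw => ?_⟩
    have h1 : sieg Q (0 : ι → F) w = 1 := gl_ext fun x => by
      rw [sieg_mulVec hQ (Q_zero hQ) hw, zero_right hQ, Units.val_one, one_mulVec]; simp
    rw [h1]; exact M.one_mem
  obtain ⟨y, hy, hy0⟩ := Submodule.exists_mem_ne_zero_of_ne_bot (p := U)
    (fun h => by rw [h, finrank_bot] at hUd; omega)
  have key : ∀ p : ι → F, p ∉ Submodule.span F {y} →
      ∃ b, Full Q M b ∧ B b p = 1 ∧ B b y = 1 := by
    intro p hp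
    obtain ⟨b, hbQ, hbs, hbp⟩ := exists_singular_any hQ ![y - p] (z := p) (fun hm => by
      rw [Matrix.range_cons, Matrix.range_empty, Set.union_empty,
        Submodule.mem_span_singleton] at hm
      obtain ⟨c, hc⟩ := hm
      rcases eq_or_ne (1 + c) 0 with e | e
      · refine hy0 ?_
        rw [show c = -1 by linear_combination e, neg_one_smul, neg_sub] at hc
        simpa using hc
      · exact hp (Submodule.mem_span_singleton.mpr ⟨(1 + c)⁻¹ * c, by
          rw [← smul_smul, show c • y = (1 + c) • p by linear_combination (norm := module) hc,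
            smul_smul, inv_mul_cancel₀ e, one_smul]⟩)) (by omega)
    have hby : B b y = 1 := by
      have := hbs 0
      rw [Matrix.cons_val_fin_one, sub_right hQ, hbp, sub_eq_zero] at this
      exact this
    obtain ⟨bW, hbW, hbU⟩ := exists_split (hQ := hQ) hW b
    refine ⟨b, hF1 b hbQ _ hbU (by rwa [sub_sub_cancel]) (fun h0 => ?_), hbp, hby⟩
    rw [sub_eq_zero.mp h0, (horth bW hbW y hy).1] at hby
    exact zero_ne_one hby
  obtain ⟨b, hbF, hbz, hby⟩ := key z (fun hm => by
    obtain ⟨c, hc⟩ := Submodule.mem_span_singleton.mp hm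
    refine hz0 ?_
    by_contra hne
    obtain ⟨-, x', hx', hzx⟩ := hW z hzW hne
    exact hzx (by rw [← hc, hb.smul_left, (horth x' hx' y hy).2, mul_zero]))
  obtain ⟨x, hxF, hxb, -⟩ := key b (fun hm => by
    obtain ⟨c, hc⟩ := Submodule.mem_span_singleton.mp hm
    rw [← hc, hb.smul_left, (horth z hzW y hy).2, mul_zero] at hbz
    exact zero_ne_one hbz)
  exact full_move hQ hbF hxF hz hxb (by rw [B_comm, hbz])

end Cfsg.Agent.Lib.TableRelax.OrthNondeg
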